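import Groth.Agent.Divis.DepthTwo
import Groth.Agent.CalgA.RegBasic
import Mathlib.LinearAlgebra.Dual.Lemmas
import Mathlib.RingTheory.Regular.Free
import Mathlib.RingTheory.DiscreteValuationRing.TFAE
import Mathlib.RingTheory.Ideal.KrullsHeightTheorem
import Mathlib.LinearAlgebra.FreeModule.PID
import Mathlib.RingTheory.Localization.Module
import Mathlib.Algebra.Module.FinitePresentation

/-!
# Reflexive modules over Noetherian rings

* a reflexive module over a ring with a regular pair has the same regular pair
* reflexivity and localization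
* finite torsion free modules over regular local rings of dimension at most one are free
* finite reflexive modules over regular local rings of dimension at most two are free
* a normal Noetherian local domain of dimension at least two has a regular pair
-/

namespace Groth.Agent.Divis.ReflexAlg

open Groth.Agent.Divis.DepthTwo IsLocalRing

section reflexive

variable {R : Type*} [CommRing R] {M : Type*} [AddCommGroup M] [Module R M] {a b : R}

/-- A regular pair on `R` is a regular pair on each reflexive module. -/
theorem regPair_of_isReflexive (h : RegPair a b R) [Module.IsReflexive R M] : RegPair a b M :=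
  (RegPair.hom (N := Module.Dual R M) h).congr (Module.evalEquiv R M).symm

theorem isReflexive_of_equiv {N : Type*} [AddCommGroup N] [Module R N] (e : M ≃ₗ[R] N)
    [Module.IsReflexive R M] : Module.IsReflexive R N := Module.equiv e

end reflexive

section localization

variable {R : Type*} [CommRing R] (S : Submonoid R) (A : Type*) [CommRing A] [Algebra R A]
  [IsLocalization S A] {M : Type*} [AddCommGroup M] [Module R M] {N : Type*} [AddCommGroup N]
  [Module R N] [Module A N] [IsScalarTower R A N] (l : M →ₗ[R] N) [IsLocalizedModule S l]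

/-- The localization map on duals. -/
noncomputable abbrev dualMap : Module.Dual R M →ₗ[R] Module.Dual A N :=
  IsLocalizedModule.mapExtendScalars S l (Algebra.linearMap R A) A

theorem dualMap_apply (ψ : Module.Dual R M) (m : M) :
    dualMap S A l ψ (l m) = algebraMap R A (ψ m) := by
  simp [dualMap]

variable [IsNoetherianRing R] [Module.Finite R M]

instance isLocalizedModule_dualMap : IsLocalizedModule S (dualMap S A l) :=
  have := Module.finitePresentation_of_finite R M
  inferInstance

/-- The localization map on double duals. -/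
noncomputable abbrev ddualMap :
    Module.Dual R (Module.Dual R M) →ₗ[R] Module.Dual A (Module.Dual A N) :=
  dualMap S A (dualMap S A l)

theorem eval_comp : (ddualMap S A l) ∘ₗ (Module.Dual.eval R M) =
    (Module.Dual.eval A N).restrictScalars R ∘ₗ l := by
  apply LinearMap.ext
  intro m
  apply LinearMap.restrictScalars_injective R
  apply IsLocalizedModule.ext S (dualMap S A l) (IsLocalizedModule.map_units
    (Algebra.linearMap R A))
  apply LinearMap.ext
  intro ψ
  simp only [LinearMap.coe_comp, LinearMap.coe_restrictScalars, Function.comp_apply]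
  rw [dualMap_apply S A (dualMap S A l)]
  simp only [Module.Dual.eval_apply]
  rw [dualMap_apply]

theorem map_eval : IsLocalizedModule.map S l (ddualMap S A l) (Module.Dual.eval R M) =
    (Module.Dual.eval A N).restrictScalars R := by
  apply IsLocalizedModule.ext S l (IsLocalizedModule.map_units (ddualMap S A l))
  rw [IsLocalizedModule.map_comp, eval_comp]

include S l in
/-- Localizations of finite reflexive modules over a Noetherian ring are reflexive. -/
theorem isReflexive_of_isLocalizedModule [Module.IsReflexive R M] : Module.IsReflexive A N := by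
  constructor
  have h := map_eval S A l
  have h1 := IsLocalizedModule.map_injective S l (ddualMap S A l) (Module.Dual.eval R M)
    (Module.bijective_dual_eval R M).1
  have h2 := IsLocalizedModule.map_surjective S l (ddualMap S A l) (Module.Dual.eval R M)
    (Module.bijective_dual_eval R M).2
  rw [h] at h1 h2
  exact ⟨h1, h2⟩

include l in
/-- If the localization of `M` at `S` is reflexive, every element of the double dual is, up to an
element of `S`, an evaluation. -/
theorem exists_smul_eq_eval [Module.IsReflexive A N] (φ : Module.Dual R (Module.Dual R M)) :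
    ∃ s ∈ S, ∃ m : M, s • φ = Module.Dual.eval R M m := by
  obtain ⟨n, hn⟩ := (Module.bijective_dual_eval A N).2 (ddualMap S A l φ)
  obtain ⟨⟨m, s⟩, hs⟩ := IsLocalizedModule.surj S l n
  have h1 : ddualMap S A l ((s : R) • φ) = ddualMap S A l (Module.Dual.eval R M m) := by
    have h2 := LinearMap.congr_fun (eval_comp S A l) m
    simp only [LinearMap.coe_comp, LinearMap.coe_restrictScalars, Function.comp_apply] at h2
    rw [map_smul, ← hn, h2]
    simp only [Submonoid.smul_def] at hs
    rw [← hs]
    rw [← algebraMap_smul A (s : R) n, map_smul, algebraMap_smul]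
  obtain ⟨t, ht⟩ := IsLocalizedModule.exists_of_eq (S := S) (f := ddualMap S A l) h1
  refine ⟨t * s, (t * s).2, (t : R) • m, ?_⟩
  simp only [Submonoid.smul_def] at ht
  rw [mul_smul, ht, map_smul]

include l in
/-- Injectivity of evaluation can be checked after localizations. -/
theorem exists_smul_eq_zero_of_eval_eq_zero [Module.IsReflexive A N] (m : M)
    (hm : Module.Dual.eval R M m = 0) : ∃ s ∈ S, s • m = 0 := by
  have h2 := LinearMap.congr_fun (eval_comp S A l) m
  simp only [LinearMap.coe_comp, LinearMap.coe_restrictScalars, Function.comp_apply] at h2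
  rw [hm, map_zero] at h2
  have h3 : l m = 0 := (Module.bijective_dual_eval A N).1 (by rw [← h2, map_zero])
  rw [IsLocalizedModule.eq_zero_iff S l] at h3
  obtain ⟨s, hs⟩ := h3
  exact ⟨s, s.2, hs⟩

end localization

section dim

theorem isPrincipalIdealRing_of_isRegularLocalRing {R : Type*} [CommRing R] [IsRegularLocalRing R]
    (h : ringKrullDim R ≤ 1) : IsPrincipalIdealRing R := by
  have := Groth.Agent.CalgA.RegBasic.isDomain R
  have h1 := (tfae_of_isNoetherianRing_of_isLocalRing_of_isDomain R).out 0 4
  rw [h1]
  have h2 := IsRegularLocalRing.spanFinrank_maximalIdeal (R := R)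
  rw [← h2] at h
  have h3 : (maximalIdeal R).spanFinrank ≤ 1 := by exact_mod_cast h
  rcases Nat.lt_or_ge (maximalIdeal R).spanFinrank 1 with h4 | h4
  · have h5 : (maximalIdeal R).spanFinrank = 0 := by omega
    rw [Submodule.spanFinrank_eq_zero_iff_eq_bot (maximalIdeal R).fg_of_isNoetherianRing] at h5
    rw [h5]
    infer_instance
  · have h5 : (maximalIdeal R).spanFinrank = 1 := le_antisymm h3 h4
    exact ((Submodule.spanFinrank_eq_one_iff _).mp h5).1

/-- Finite torsion free modules over regular local rings of dimension at most one are free. -/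
theorem free_of_isTorsionFree {R : Type*} [CommRing R] [IsRegularLocalRing R]
    (h : ringKrullDim R ≤ 1) (M : Type*) [AddCommGroup M] [Module R M] [Module.Finite R M]
    [Module.IsTorsionFree R M] : Module.Free R M := by
  have := isPrincipalIdealRing_of_isRegularLocalRing h
  have := Groth.Agent.CalgA.RegBasic.isDomain R
  exact Module.free_of_finite_type_torsion_free'

/-- The dual of anything is torsion free. -/
theorem dual_isTorsionFree {R : Type*} [CommRing R] (N : Type*) [AddCommGroup N] [Module R N] :
    Module.IsTorsionFree R (Module.Dual R N) := by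
  constructor
  intro r hr φ ψ h
  ext n
  have := LinearMap.congr_fun h n
  simp only [LinearMap.smul_apply, smul_eq_mul] at this
  exact hr.left this

/-- Finite reflexive modules over regular local rings of dimension at most two are free. -/
theorem free_of_isReflexive {R : Type*} [CommRing R] [IsRegularLocalRing R]
    (h : ringKrullDim R ≤ 2) (M : Type*) [AddCommGroup M] [Module R M] [Module.Finite R M]
    [Module.IsReflexive R M] : Module.Free R M := by
  have := Groth.Agent.CalgA.RegBasic.isDomain R
  rcases le_or_gt (ringKrullDim R) 1 with h1 | h1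
  · exact free_of_isTorsionFree h1 M
  -- `R` is of dimension two
  have hm : maximalIdeal R ≠ ⊥ := by
    intro hm
    have h2 : ringKrullDim R ≤ 1 := by
      rw [← IsRegularLocalRing.spanFinrank_maximalIdeal (R := R),
        (Submodule.spanFinrank_eq_zero_iff_eq_bot (maximalIdeal R).fg_of_isNoetherianRing).mpr hm]
      exact_mod_cast zero_le_one
    exact absurd h1 (not_lt.mpr h2)
  obtain ⟨x, hx, hx2, -⟩ := Groth.Agent.CalgA.RegBasic.exists_notMem_sq_notMem_minimalPrimes
    (R := R) ∅ Set.finite_empty (by simp) (by simp) hm
  have hx0 : x ≠ 0 := by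
    rintro rfl
    exact hx2 (zero_mem _)
  obtain ⟨hreg, hdim⟩ := Groth.Agent.CalgA.RegBasic.quotient_of_notMem_sq x hx hx2
  have hdim1 : ringKrullDim (R ⧸ Ideal.span {x}) ≤ 1 := by
    rw [← ENat.WithBot.add_le_add_one_right_iff, hdim]
    exact h
  have hreg' : IsSMulRegular M x := by
    have : Module.IsTorsionFree R M := inferInstance
    exact this.isSMulRegular (IsRegular.of_ne_zero hx0)
  have hfp := Module.finitePresentation_of_finite R M
  rw [← Module.free_quotSMulTop_iff_free R M (x := x)
    (by rw [IsLocalRing.jacobson_eq_maximalIdeal ⊥ bot_ne_top]; exact hx) hreg']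
  have hfin := Module.Finite.of_restrictScalars_finite R (R ⧸ Ideal.span {x}) (QuotSMulTop x M)
  have hdom := Groth.Agent.CalgA.RegBasic.isDomain (R ⧸ Ideal.span {x})
  have hprime : (Ideal.span {x}).IsPrime := (Ideal.Quotient.isDomain_iff_prime _).mp hdom
  have htf : Module.IsTorsionFree (R ⧸ Ideal.span {x}) (QuotSMulTop x M) := by
    constructor
    intro r hr
    obtain ⟨r, rfl⟩ := Ideal.Quotient.mk_surjective r
    have hrx : r ∉ Ideal.span {x} := by
      intro hrx
      rw [Ideal.Quotient.eq_zero_iff_mem.mpr hrx] at hr
      exact hr.ne_zero rfl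
    have hpair : RegPair x r R := by
      refine ⟨fun y hy => ?_, fun y z hyz => ?_⟩
      · simpa [hx0] using hy
      · have h3 : r * y ∈ Ideal.span {x} := by
          rw [Ideal.mem_span_singleton']
          exact ⟨z, by rw [← smul_eq_mul r y, hyz, smul_eq_mul, mul_comm]⟩
        have h4 := (hprime.mem_or_mem h3).resolve_left hrx
        rw [Ideal.mem_span_singleton'] at h4
        obtain ⟨k, hk⟩ := h4
        exact ⟨k, by rw [← hk, smul_eq_mul, mul_comm]⟩
    have hpair' : RegPair x r M := regPair_of_isReflexive hpair
    rw [isSMulRegular_iff_right_eq_zero_of_smul]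
    intro m
    obtain ⟨m, rfl⟩ := Submodule.mkQ_surjective _ m
    intro hm
    change (Ideal.Quotient.mk (Ideal.span {x}) r) • (Submodule.Quotient.mk m : QuotSMulTop x M) = 0
      at hm
    have hm' : (Submodule.Quotient.mk (r • m) : QuotSMulTop x M) = 0 := hm
    rw [Submodule.Quotient.mk_eq_zero, Submodule.mem_smul_pointwise_iff_exists] at hm'
    obtain ⟨n, -, hn⟩ := hm'
    obtain ⟨z, hz⟩ := hpair'.div m n hn.symm
    rw [Submodule.mkQ_apply, Submodule.Quotient.mk_eq_zero, Submodule.mem_smul_pointwise_iff_exists]
    exact ⟨z, trivial, hz.symm⟩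
  exact free_of_isTorsionFree hdim1 _

end dim

section normal

/-- If `R` is a normal Noetherian local domain whose maximal ideal is not principal, then for
`a ∈ m` nonzero, `m` is not associated to `R / a`. -/
theorem isPrincipal_of_forall_exists {R : Type*} [CommRing R] [IsDomain R] [IsNoetherianRing R]
    [IsLocalRing R] [IsIntegrallyClosed R] {a b : R} (ha₁ : a ∈ maximalIdeal R) (ha₂ : a ≠ 0)
    (hb₂ : b ∉ Ideal.span {a}) (hb₃ : ∀ m ∈ maximalIdeal R, ∃ k : R, k * a = b * m) :
    (maximalIdeal R).IsPrincipal := by
  have hb₄ : b ≠ 0 := by rintro rfl; apply hb₂; exact zero_mem _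
  let K := FractionRing R
  let x : K := algebraMap R K b / algebraMap R K a
  let M := Submodule.map (Algebra.linearMap R K) (maximalIdeal R)
  have ha₃ : algebraMap R K a ≠ 0 := IsFractionRing.to_map_eq_zero_iff.not.mpr ha₂
  by_cases hx : ∀ y ∈ M, x * y ∈ M
  · have := isIntegral_of_smul_mem_submodule M ?_ ?_ x hx
    · obtain ⟨y, e⟩ := IsIntegrallyClosed.algebraMap_eq_of_integral this
      refine (hb₂ (Ideal.mem_span_singleton'.mpr ⟨y, ?_⟩)).elim
      apply IsFractionRing.injective R K
      rw [map_mul, e, div_mul_cancel₀ _ ha₃]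
    · rw [Submodule.ne_bot_iff]; refine ⟨_, ⟨a, ha₁, rfl⟩, ?_⟩
      exact (IsFractionRing.to_map_eq_zero_iff (K := K)).not.mpr ha₂
    · apply Submodule.FG.map; exact IsNoetherian.noetherian _
  · have :
        (M.map (DistribSMul.toLinearMap R K x)).comap (Algebra.linearMap R K) = ⊤ := by
      contrapose! hx with h
      rintro m' ⟨m, hm, rfl : algebraMap R K m = m'⟩
      obtain ⟨k, hk⟩ := hb₃ m hm
      have hk' : x * algebraMap R K m = algebraMap R K k := by
        rw [← mul_div_right_comm, ← map_mul, ← hk, map_mul, mul_div_cancel_right₀ _ ha₃]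
      exact ⟨k, le_maximalIdeal h ⟨_, ⟨_, hm, rfl⟩, hk'⟩, hk'.symm⟩
    obtain ⟨y, hy₁, hy₂⟩ : ∃ y ∈ maximalIdeal R, b * y = a := by
      rw [Ideal.eq_top_iff_one, Submodule.mem_comap] at this
      obtain ⟨_, ⟨y, hy, rfl⟩, hy' : x * algebraMap R K y = algebraMap R K 1⟩ := this
      rw [map_one, ← mul_div_right_comm, div_eq_one_iff_eq ha₃, ← map_mul] at hy'
      exact ⟨y, hy, IsFractionRing.injective R K hy'⟩
    refine ⟨⟨y, ?_⟩⟩
    apply le_antisymm
    · intro m hm; obtain ⟨k, hk⟩ := hb₃ m hm; rw [← hy₂, mul_comm, mul_assoc] at hk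
      rw [← mul_left_cancel₀ hb₄ hk, mul_comm]; exact Ideal.mem_span_singleton'.mpr ⟨_, rfl⟩
    · rwa [Submodule.span_le, Set.singleton_subset_iff]

theorem ringKrullDim_le_one_of_isPrincipal {R : Type*} [CommRing R] [IsNoetherianRing R]
    [IsLocalRing R] (h : (maximalIdeal R).IsPrincipal) : ringKrullDim R ≤ 1 := by
  rw [← IsLocalRing.maximalIdeal_height_eq_ringKrullDim]
  have := Ideal.height_le_one_of_isPrincipal_of_mem_minimalPrimes (maximalIdeal R) (maximalIdeal R)
    (by rw [Ideal.minimalPrimes_eq_subsingleton_self]; rfl)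
  exact_mod_cast this

/-- A normal Noetherian local domain of dimension at least two has depth at least two. -/
theorem exists_regPair_of_isIntegrallyClosed {R : Type*} [CommRing R] [IsDomain R]
    [IsNoetherianRing R] [IsLocalRing R] [IsIntegrallyClosed R] (h : 2 ≤ ringKrullDim R) :
    ∃ a ∈ maximalIdeal R, ∃ b ∈ maximalIdeal R, RegPair a b R := by
  have hnp : ¬ (maximalIdeal R).IsPrincipal := fun hp => by
    have := h.trans (ringKrullDim_le_one_of_isPrincipal hp)
    exact absurd this (by decide)
  obtain ⟨a, ha, ha0⟩ : ∃ a ∈ maximalIdeal R, a ≠ 0 := by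
    by_contra! hcon
    apply hnp
    have : maximalIdeal R = ⊥ := by
      rw [eq_bot_iff]
      exact fun x hx => hcon x hx
    rw [this]
    infer_instance
  obtain ⟨b, hb, hb'⟩ := exists_regular_of_forall (maximalIdeal R) (Ideal.span {a}) (by
    intro p hp hle x hx
    refine ⟨1, fun h1 => hp.ne_top ((Ideal.eq_top_iff_one p).mpr h1), ?_⟩
    rw [one_smul]
    by_contra hxa
    apply hnp
    refine isPrincipal_of_forall_exists ha ha0 hxa (fun m hm => ?_)
    have := hx m (hle hm)
    rw [Ideal.mem_span_singleton'] at this
    obtain ⟨k, hk⟩ := this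
    exact ⟨k, by rw [hk, smul_eq_mul, mul_comm]⟩)
  refine ⟨a, ha, b, hb, fun x hx => ?_, fun x y hxy => ?_⟩
  · simpa [ha0] using hx
  · have := hb' x (by
      rw [hxy, smul_eq_mul, mul_comm]
      exact Ideal.mem_span_singleton'.mpr ⟨y, rfl⟩)
    rw [Ideal.mem_span_singleton'] at this
    obtain ⟨k, hk⟩ := this
    exact ⟨k, by rw [← hk, smul_eq_mul, mul_comm]⟩

/-- A normal Noetherian local domain of dimension at most one is a principal ideal domain. -/
theorem isPrincipalIdealRing_of_isIntegrallyClosed {R : Type*} [CommRing R] [IsDomain R]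
    [IsNoetherianRing R] [IsLocalRing R] [IsIntegrallyClosed R] (h : ringKrullDim R ≤ 1) :
    IsPrincipalIdealRing R := by
  have key : IsPrincipalIdealRing R ↔ (IsIntegrallyClosed R ∧
      ∀ P : Ideal R, P ≠ ⊥ → P.IsPrime → P = maximalIdeal R) :=
    (tfae_of_isNoetherianRing_of_isLocalRing_of_isDomain R).out 0 3
  refine key.mpr ⟨inferInstance, fun P hP hPp => ?_⟩
  have h1 : Ring.KrullDimLE 1 R := Order.krullDimLE_iff _ _ |>.mpr h
  have := Ring.krullDimLE_one_iff_of_noZeroDivisors.mp h1 P hP hPp
  exact IsLocalRing.eq_maximalIdeal this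

end normal

end Groth.Agent.Divis.ReflexAlg
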