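import Groth.Agent.Fdesc.LocGenAmple

/-!
# Finite sets of points on a scheme with an ample invertible module

`exists_genLocus_of_finite` (Stacks 09NV for points, EGA II 4.5.4 without separatedness): a finite set of points contained
in an open `W` lies in an affine `X_s ≤ W`, `s` a section of a positive power of an ample `L`.
-/

set_option autoImplicit false
universe u

open CategoryTheory CategoryTheory.Limits AlgebraicGeometry Opposite TopologicalSpace

namespace Groth.Agent.Divis.AmpleFin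

open Groth.Agent.Fdesc.LocGen

variable {X : Scheme.{u}}

/-- Every point of a finite set specializes to one that is maximally special in the set. -/
theorem exists_special (E : Set X) (hE : E.Finite) :
    ∃ F ⊆ E, (∀ x ∈ E, ∃ y ∈ F, x ⤳ y) ∧ ∀ x ∈ F, ∀ y ∈ F, x ⤳ y → x = y := by
  refine ⟨{x ∈ E | ∀ y ∈ E, x ⤳ y → x = y}, fun x hx => hx.1, ?_, fun x hx y hy h => hx.2 y hy.1 h⟩
  intro x hx
  -- a minimal element of `{y ∈ E | x ⤳ y}` for the specialization preorder
  have hfin : {y ∈ E | x ⤳ y}.Finite := hE.subset fun y hy => hy.1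
  obtain ⟨y, hy⟩ := hfin.exists_minimal ⟨x, hx, specializes_rfl⟩
  refine ⟨y, ⟨hy.1.1, fun z hz hyz => ?_⟩, hy.1.2⟩
  have h1 : y ≤ z := hy.2 (y := z) ⟨hz, hy.1.2.trans hyz⟩ (show z ≤ y from hyz)
  exact (Specializes.antisymm hyz h1).eq

theorem genLocus_inf_of_smul {L : X.Modules} {G : X.Opens} {s t : Coh.structureModule X ⟶ L}
    (hs : IsGen (sec s G)) {f : Γ(X, G)} (h : sec t G = f • sec s G) :
    CohB1.genLocus L t ⊓ G = X.basicOpen f := genLocus_inf_eq t hs h

/-- The nonvanishing locus of `s = Σ s_i` is affine if the `X_{s_i}` are. -/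
theorem isAffineOpen_genLocus_sum {L : X.Modules} (hL : PicF.IsInvertible L) {ι : Type*} [Fintype ι]
    (t : ι → (Coh.structureModule X ⟶ L)) (ht : ∀ i, IsAffineOpen (CohB1.genLocus L (t i))) :
    IsAffineOpen (CohB1.genLocus L (∑ i, t i)) := by
  classical
  set s := ∑ i, t i with hs
  set G := CohB1.genLocus L s with hG
  have hgen : IsGen (sec s G) := (le_genLocus_iff s G).mp le_rfl
  choose f hf using fun i => hgen.exists_eq (sec (t i) G)
  have hsum : ∑ i, f i = 1 := by
    apply hgen.ext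
    rw [one_smul, Finset.sum_smul]
    rw [Finset.sum_congr rfl (fun i _ => (hf i).symm)]
    have : sec s G = ∑ i, sec (t i) G := by
      rw [hs]
      exact map_sum (M := Coh.structureModule X ⟶ L) (N := Γ(L, G))
        (AddMonoidHom.mk' (fun φ : Coh.structureModule X ⟶ L => (sec φ G : Γ(L, G))) (fun _ _ => rfl)) t Finset.univ
    exact this.symm
  refine isAffineOpen_of_isAffineOpen_basicOpen G (Set.range f) ?_ ?_
  · rw [Ideal.eq_top_iff_one, ← hsum]
    exact Ideal.sum_mem _ fun i _ => Ideal.subset_span ⟨i, rfl⟩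
  · rintro _ ⟨i, rfl⟩
    rw [← genLocus_inf_of_smul hgen (hf i), inf_comm]
    exact isAffineOpen_genLocus_inf hL s (ht i)

theorem sec_sum {L : X.Modules} {ι : Type*} [Fintype ι] (t : ι → (Coh.structureModule X ⟶ L)) (G : X.Opens) :
    sec (∑ i, t i) G = ∑ i, sec (t i) G :=
  map_sum (M := Coh.structureModule X ⟶ L) (N := Γ(L, G))
    (AddMonoidHom.mk' (fun φ : Coh.structureModule X ⟶ L => (sec φ G : Γ(L, G))) (fun _ _ => rfl)) t Finset.univ

/-- If exactly one of the summands does not vanish at `x`, the sum does not vanish at `x`. -/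
theorem mem_genLocus_sum {L : X.Modules} (hL : PicF.IsInvertible L) {ι : Type*} [Fintype ι]
    (t : ι → (Coh.structureModule X ⟶ L)) (x : X) (i : ι) (hi : x ∈ CohB1.genLocus L (t i))
    (hj : ∀ j, j ≠ i → x ∉ CohB1.genLocus L (t j)) : x ∈ CohB1.genLocus L (∑ i, t i) := by
  classical
  obtain ⟨V, e, -, hxV, -, he⟩ := exists_affine_gen hL (U := ⊤) (x := x) trivial
  choose a ha using fun i => he.exists_eq (sec (t i) V)
  have hmem : ∀ j, x ∈ CohB1.genLocus L (t j) ↔ IsUnit (X.presheaf.germ V x hxV (a j)) := by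
    intro j
    rw [← Scheme.mem_basicOpen, ← genLocus_inf_eq (t j) he (ha j)]
    exact ⟨fun h => ⟨h, hxV⟩, fun h => h.1⟩
  have hsum : sec (∑ i, t i) V = (∑ i, a i) • e := by
    rw [sec_sum, Finset.sum_smul]
    exact Finset.sum_congr rfl fun i _ => ha i
  have h1 : x ∈ CohB1.genLocus L (∑ i, t i) ↔ IsUnit (X.presheaf.germ V x hxV (∑ i, a i)) := by
    rw [← Scheme.mem_basicOpen, ← genLocus_inf_eq _ he hsum]
    exact ⟨fun h => ⟨h, hxV⟩, fun h => h.1⟩
  rw [h1]
  by_contra hcon
  have h2 : X.presheaf.germ V x hxV (∑ i, a i) ∈ IsLocalRing.maximalIdeal (X.presheaf.stalk x) :=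
    (IsLocalRing.mem_maximalIdeal _).mpr hcon
  rw [map_sum, ← Finset.add_sum_erase _ _ (Finset.mem_univ i)] at h2
  have h3 : ∑ j ∈ Finset.univ.erase i, X.presheaf.germ V x hxV (a j) ∈
      IsLocalRing.maximalIdeal (X.presheaf.stalk x) := by
    refine Ideal.sum_mem _ fun j hj' => (IsLocalRing.mem_maximalIdeal _).mpr ?_
    intro hu
    exact hj j (Finset.ne_of_mem_erase hj') ((hmem j).mpr hu)
  have h4 := (Ideal.add_mem_iff_left _ h3).mp h2
  exact (IsLocalRing.mem_maximalIdeal _).mp h4 ((hmem i).mp hi)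

theorem genLocus_sum_le {L : X.Modules} (hL : PicF.IsInvertible L) {ι : Type*} [Fintype ι]
    (t : ι → (Coh.structureModule X ⟶ L)) (W : X.Opens) (h : ∀ i, CohB1.genLocus L (t i) ≤ W) :
    CohB1.genLocus L (∑ i, t i) ≤ W := by
  classical
  intro x hx
  by_contra hxW
  obtain ⟨V, e, -, hxV, -, he⟩ := exists_affine_gen hL (U := ⊤) (x := x) trivial
  choose a ha using fun i => he.exists_eq (sec (t i) V)
  have hsum : sec (∑ i, t i) V = (∑ i, a i) • e := by
    rw [sec_sum, Finset.sum_smul]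
    exact Finset.sum_congr rfl fun i _ => ha i
  have h1 : IsUnit (X.presheaf.germ V x hxV (∑ i, a i)) := by
    rw [← Scheme.mem_basicOpen, ← genLocus_inf_eq _ he hsum]
    exact ⟨hx, hxV⟩
  have h2 : X.presheaf.germ V x hxV (∑ i, a i) ∈ IsLocalRing.maximalIdeal (X.presheaf.stalk x) := by
    rw [map_sum]
    refine Ideal.sum_mem _ fun j _ => (IsLocalRing.mem_maximalIdeal _).mpr ?_
    intro hu
    rw [← Scheme.mem_basicOpen, ← genLocus_inf_eq (t j) he (ha j)] at hu
    exact hxW (h j hu.1)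
  exact (IsLocalRing.mem_maximalIdeal _).mp h2 h1

/-- Powers of sections of tensor powers, keeping track of the exponent only. -/
theorem exists_pow [CompactSpace X] {L : X.Modules} (hL : PicF.IsInvertible L) {k : ℕ}
    (t : Coh.structureModule X ⟶ CohB1.tensorPow L k) {m : ℕ} (hm : 0 < m) :
    ∃ t' : Coh.structureModule X ⟶ CohB1.tensorPow L (k * m), CohB1.genLocus _ t' = CohB1.genLocus _ t := by
  obtain ⟨r, ⟨T⟩⟩ := exists_triv hL
  obtain ⟨a, ha, haij⟩ := T.exists_family k t
  obtain ⟨t', ht'⟩ := T.exists_section (k * m) (fun i => a i ^ m) (fun i j => by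
    rw [map_pow, map_pow, haij, pow_mul]
    ring)
  refine ⟨t', ?_⟩
  have key : ∀ i, CohB1.genLocus _ t' ⊓ T.U i = CohB1.genLocus _ t ⊓ T.U i := by
    intro i
    rw [T.genLocus_inf ht' i, T.genLocus_inf ha i, Scheme.basicOpen_pow _ _ hm]
  have h5 : ∀ W : X.Opens, W = ⨆ i, W ⊓ T.U i := fun W => by
    rw [← inf_iSup_eq, T.cover, inf_top_eq]
  rw [h5 (CohB1.genLocus _ t'), h5 (CohB1.genLocus _ t)]
  exact iSup_congr key

theorem exists_cast {L : X.Modules} {k k' : ℕ} (h : k = k') (t : Coh.structureModule X ⟶ CohB1.tensorPow L k) :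
    ∃ t' : Coh.structureModule X ⟶ CohB1.tensorPow L k', CohB1.genLocus _ t' = CohB1.genLocus _ t := by
  subst h
  exact ⟨t, rfl⟩

/-- A finite set of points contained in an open `W` lies in an affine `X_s ≤ W`, with `s` a section of a positive power
of the ample `L`. -/
theorem exists_genLocus_of_finite {L : X.Modules} (hL : CohB1.IsAmple L) (E : Set X) (hE : E.Finite)
    (W : X.Opens) (hEW : E ⊆ W) :
    ∃ (m : ℕ) (t : Coh.structureModule X ⟶ CohB1.tensorPow L (m + 1)),
      E ⊆ CohB1.genLocus _ t ∧ CohB1.genLocus _ t ≤ W ∧ IsAffineOpen (CohB1.genLocus _ t) := by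
  classical
  have hcomp : CompactSpace X := hL.2.1
  obtain ⟨F, hFE, hF1, hF2⟩ := exists_special E hE
  have hFfin : F.Finite := hE.subset hFE
  have : Fintype F := hFfin.fintype
  -- open neighbourhoods separating the points of `F`
  have h1 : ∀ x : F, ∃ (m : ℕ) (t : Coh.structureModule X ⟶ CohB1.tensorPow L (m + 1)),
      x.1 ∈ CohB1.genLocus _ t ∧ CohB1.genLocus _ t ≤ W ∧ (∀ y ∈ F, y ≠ x.1 → y ∉ CohB1.genLocus _ t) ∧
        IsAffineOpen (CohB1.genLocus _ t) := by
    intro x
    set C : Set X := ⋃ y ∈ F \ {x.1}, closure {y} with hC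
    have hCc : IsClosed C := (hFfin.subset (Set.sdiff_subset)).isClosed_biUnion fun y _ => isClosed_closure
    have hxC : x.1 ∉ C := by
      rw [hC, Set.mem_iUnion₂]
      rintro ⟨y, hy, hxy⟩
      exact hy.2 (hF2 y hy.1 x.1 x.2 (specializes_iff_mem_closure.mpr hxy))
    obtain ⟨m, t, hxt, htW, haff⟩ := IsAmple.exists_genLocus_le hL (x := x.1) (W := W ⊓ ⟨Cᶜ, hCc.isOpen_compl⟩)
      ⟨hEW (hFE x.2), hxC⟩
    refine ⟨m, t, hxt, htW.trans inf_le_left, fun y hy hyx hyt => ?_, haff⟩
    refine (htW hyt).2 ?_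
    rw [hC, Set.mem_iUnion₂]
    exact ⟨y, ⟨hy, hyx⟩, subset_closure rfl⟩
  choose m t hxt htW hsep haff using h1
  set D : ℕ := ∏ x : F, (m x + 1) with hD
  have hDpos : 0 < D := Finset.prod_pos fun x _ => Nat.succ_pos _
  obtain ⟨D', hD'⟩ : ∃ D', D = D' + 1 := ⟨D - 1, by omega⟩
  have h2 : ∀ x : F, ∃ t' : Coh.structureModule X ⟶ CohB1.tensorPow L (D' + 1),
      CohB1.genLocus _ t' = CohB1.genLocus _ (t x) := by
    intro x
    obtain ⟨q, hq⟩ : (m x + 1) ∣ D := Finset.dvd_prod_of_mem (fun x : F => m x + 1) (Finset.mem_univ x)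
    have hqpos : 0 < q := by
      rcases Nat.eq_zero_or_pos q with h | h
      · rw [h, mul_zero] at hq; omega
      · exact h
    obtain ⟨t', ht'⟩ := exists_pow hL.1 (t x) hqpos
    obtain ⟨t'', ht''⟩ := exists_cast (hq.symm.trans hD') t'
    exact ⟨t'', ht''.trans ht'⟩
  choose t' ht' using h2
  have hinv := isInvertible_tensorPow hL.1 (D' + 1)
  refine ⟨D', ∑ x, t' x, ?_, ?_, ?_⟩
  · intro x hx
    obtain ⟨y, hy, hxy⟩ := hF1 x hx
    refine hxy.mem_open (CohB1.genLocus _ _).2 ?_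
    refine mem_genLocus_sum hinv t' y ⟨y, hy⟩ ?_ ?_
    · rw [ht']
      exact hxt ⟨y, hy⟩
    · intro z hz
      rw [ht']
      exact hsep z y hy fun h => hz (Subtype.ext h.symm)
  · exact genLocus_sum_le hinv t' W fun x => by rw [ht']; exact htW x
  · exact isAffineOpen_genLocus_sum hinv t' fun x => by rw [ht']; exact haff x

end Groth.Agent.Divis.AmpleFin
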