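import Groth.Agent.Divis.WeakAss
import Mathlib.RingTheory.Ideal.AssociatedPrime.Localization

/-!
# Associated points of the structure sheaf of a locally Noetherian scheme
-/

set_option autoImplicit false
universe u
open CategoryTheory CategoryTheory.Limits AlgebraicGeometry TopologicalSpace Opposite
open Groth.Agent.Fdesc.QCohStalk Groth.Agent.Divis.WeakAss

namespace Groth.Agent.Divis.AssRing

variable {X : Scheme.{u}} {U : X.Opens} (hU : IsAffineOpen U)

/-- Associated points of `O_X` correspond to associated primes of `Γ(X,U)`. -/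
theorem isAssociatedPrime_stalk_iff [IsNoetherianRing Γ(X, U)] {x : X} (hx : x ∈ U) :
    IsAssociatedPrime (IsLocalRing.maximalIdeal ↑(X.presheaf.stalk x)) ↑(X.presheaf.stalk x) ↔
      (hU.primeIdealOf ⟨x, hx⟩).asIdeal ∈ associatedPrimes Γ(X, U) Γ(X, U) := by
  letI : Algebra Γ(X, U) (X.presheaf.stalk x) :=
    TopCat.Presheaf.algebra_section_stalk X.presheaf ⟨x, hx⟩
  have h1 := hU.isLocalization_stalk ⟨x, hx⟩
  have h2 : IsLocalizedModule (hU.primeIdealOf ⟨x, hx⟩).asIdeal.primeCompl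
      (Algebra.linearMap Γ(X, U) (X.presheaf.stalk x)) :=
    (isLocalizedModule_iff_isLocalization' _ _).mpr h1
  have h3 := Module.associatedPrimes.preimage_comap_associatedPrimes_eq_associatedPrimes_of_isLocalizedModule
    (hU.primeIdealOf ⟨x, hx⟩).asIdeal.primeCompl (X.presheaf.stalk x)
    (Algebra.linearMap Γ(X, U) (X.presheaf.stalk x))
  have h4 : (IsLocalRing.maximalIdeal (X.presheaf.stalk x)).comap (algebraMap Γ(X, U) (X.presheaf.stalk x)) =
      (hU.primeIdealOf ⟨x, hx⟩).asIdeal := by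
    ext g
    rw [mem_primeIdealOf_iff hU x hx]
    rfl
  rw [← h4]
  change _ ↔ IsLocalRing.maximalIdeal (X.presheaf.stalk x) ∈ Ideal.comap (algebraMap Γ(X, U) (X.presheaf.stalk x)) ⁻¹'
    associatedPrimes Γ(X, U) Γ(X, U)
  rw [h3]
  rfl

/-- germ of a function vanishing at a point. -/
theorem exists_mul_eq_zero_of_germ_eq_zero {x : X} (hx : x ∈ U) (t : Γ(X, U))
    (ht : X.presheaf.germ U x hx t = 0) : ∃ g ∉ (hU.primeIdealOf ⟨x, hx⟩).asIdeal, g * t = 0 := by
  letI : Algebra Γ(X, U) (X.presheaf.stalk x) :=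
    TopCat.Presheaf.algebra_section_stalk X.presheaf ⟨x, hx⟩
  have h1 := hU.isLocalization_stalk ⟨x, hx⟩
  have ht' : algebraMap Γ(X, U) (X.presheaf.stalk x) t = 0 := ht
  rw [IsLocalization.map_eq_zero_iff (hU.primeIdealOf ⟨x, hx⟩).asIdeal.primeCompl] at ht'
  obtain ⟨g, hg⟩ := ht'
  exact ⟨g.1, g.2, hg⟩

end Groth.Agent.Divis.AssRing
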