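import Groth.Agent.Picfga.IdealGlue
import Groth.Agent.Divis.EffCartier
import Groth.Agent.PerfA.IdealModule
import Groth.Agent.Fdesc.LocGenTensor

/-!
# Effective Cartier divisors from local equations

`exists_ideal`: an affine cover `W i` and functions `a i ∈ Γ(X, W i)` that generate the same ideal on affine opens of
the overlaps give an ideal sheaf `D` with `D(V) = (a i|_V)` for affine `V ≤ W i`.
`isEffCartierIdeal`, `not_mem_support_iff`, `exists_gen`: `D` is effective Cartier if the `a i` are nonzerodivisors, the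
support is the zero set of the `a i`, and `ClSub.idealMod D` has a generator over `W i` with value `a i`.
-/

set_option autoImplicit false
universe u

open CategoryTheory AlgebraicGeometry Limits TopologicalSpace

namespace Groth.Agent.Divis.CartierData

open Groth.Agent.Picfga.IdealGlue Groth.Agent.Divis.IdealComap Groth.Agent.Fdesc.LocGen
open Groth.Agent.Divis.EffCartier Groth.Agent.PerfA.IdealModule
open Groth.Agent.Fdesc

variable {X Y : Scheme.{u}}

/-- the iso `Γ(X, W) → Γ(W, ⊤)` is an isomorphism -/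
instance isIso_appLE_ι (W : X.Opens) : IsIso (W.ι.appLE W ⊤ W.ι_preimage_self.ge) := by
  have : W.ι.appLE W ⊤ W.ι_preimage_self.ge = W.topIso.inv := by
    simp only [Scheme.Hom.appLE, Scheme.Opens.ι_app, Scheme.Opens.topIso_inv,
      Scheme.Opens.toScheme_presheaf_map]
    exact (Functor.map_comp _ _ _).symm
  rw [this]
  infer_instance

/-- pulling back a function on `W i` to an open `V'` of a scheme mapping to `W i` -/
lemma appLE_appLE_res {P : Scheme.{u}} {W V : X.Opens} (q : P ⟶ W.toScheme) (V' : P.Opens)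
    (hV : V ≤ W) (e : V' ≤ (q ≫ W.ι) ⁻¹ᵁ V) (a : Γ(X, W)) :
    (q.appLE ⊤ V' le_top).hom ((W.ι.appLE W ⊤ W.ι_preimage_self.ge).hom a) =
      ((q ≫ W.ι).appLE V V' e).hom (ores hV a) := by
  have h1 := Scheme.Hom.appLE_comp_appLE (f := q) (g := W.ι) W ⊤ V' W.ι_preimage_self.ge le_top
  have h2 := Scheme.Hom.map_appLE (q ≫ W.ι) e (homOfLE hV).op
  rw [← CommRingCat.comp_apply, h1, ores, ← CommRingCat.comp_apply, h2]

theorem exists_ideal {ι : Type u} (W : ι → X.affineOpens) (hW : ⨆ i, (W i).1 = ⊤)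
    (a : ∀ i, Γ(X, (W i).1))
    (h : ∀ (i j : ι) (V : X.affineOpens) (hi : V.1 ≤ (W i).1) (hj : V.1 ≤ (W j).1),
      Ideal.span {ores hi (a i)} = Ideal.span {ores hj (a j)}) :
    ∃ D : X.IdealSheafData, ∀ (i : ι) (V : X.affineOpens) (hi : V.1 ≤ (W i).1),
      D.ideal V = Ideal.span {ores hi (a i)} := by
  have haff : ∀ i, IsAffine (W i).1.toScheme := fun i => (W i).2
  let I : ∀ i, (W i).1.toScheme.IdealSheafData := fun i =>
    Scheme.IdealSheafData.ofIdealTop
      (Ideal.span {((W i).1.ι.appLE (W i).1 ⊤ (W i).1.ι_preimage_self.ge).hom (a i)})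
  have hI : ∀ i, (I i).ideal ⟨⊤, isAffineOpen_top _⟩ =
      Ideal.span {((W i).1.ι.appLE (W i).1 ⊤ (W i).1.ι_preimage_self.ge).hom (a i)} := fun i => by
    have h0 : ((W i).1.toScheme.presheaf.map (homOfLE (le_top : (⊤ : (W i).1.toScheme.Opens) ≤ ⊤)).op).hom =
        RingHom.id _ :=
      congrArg CommRingCat.Hom.hom ((W i).1.toScheme.presheaf.map_id _)
    simp only [I, Scheme.IdealSheafData.ofIdealTop_ideal]
    exact (congrArg (fun g => Ideal.map g _) h0).trans (Ideal.map_id _)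
  obtain ⟨D, hD, -⟩ := exists_unique_glue_family (Y := X) (fun i => (W i).1.toScheme)
    (fun i => (W i).1.ι) (fun y => by
      obtain ⟨i, hi⟩ := Opens.mem_iSup.mp (show y ∈ ⨆ i, (W i).1 by rw [hW]; trivial)
      exact ⟨i, ⟨y, hi⟩, rfl⟩) I (by
      intro i j
      refine ext_of_forall_mem fun x => ?_
      obtain ⟨V', hV', hxV', -⟩ := exists_isAffineOpen_mem_and_subset
        (U := (⊤ : (pullback (W i).1.ι (W j).1.ι).Opens)) (x := x) trivial
      refine ⟨⟨V', hV'⟩, hxV', ?_⟩
      rw [ideal_comap (I i) _ ⟨⊤, isAffineOpen_top _⟩ ⟨V', hV'⟩ le_top,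
        ideal_comap (I j) _ ⟨⊤, isAffineOpen_top _⟩ ⟨V', hV'⟩ le_top, hI, hI,
        Ideal.map_span, Ideal.map_span, Set.image_singleton, Set.image_singleton]
      set p := pullback.fst (W i).1.ι (W j).1.ι ≫ (W i).1.ι with hp
      have hp' : p = pullback.snd (W i).1.ι (W j).1.ι ≫ (W j).1.ι := pullback.condition
      let V : X.affineOpens := ⟨p ''ᵁ V', hV'.image_of_isOpenImmersion p⟩
      have hVi : V.1 ≤ (W i).1 := by
        rintro _ ⟨y, -, rfl⟩
        exact ((pullback.fst (W i).1.ι (W j).1.ι) y).2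
      have hVj : V.1 ≤ (W j).1 := by
        rintro _ ⟨y, -, rfl⟩
        rw [hp']
        exact ((pullback.snd (W i).1.ι (W j).1.ι) y).2
      have e : V' ≤ p ⁻¹ᵁ V.1 := (p.preimage_image_eq V').ge
      have e' : V' ≤ (pullback.snd (W i).1.ι (W j).1.ι ≫ (W j).1.ι) ⁻¹ᵁ V.1 := by
        rw [← hp']; exact e
      have h3 := appLE_appLE_res (pullback.fst (W i).1.ι (W j).1.ι) V' hVi e (a i)
      have h4 := appLE_appLE_res (pullback.snd (W i).1.ι (W j).1.ι) V' hVj e' (a j)
      have h5 := congrArg (Ideal.map (p.appLE V.1 V' e).hom) (h i j V hVi hVj)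
      rw [Ideal.map_span, Ideal.map_span, Set.image_singleton, Set.image_singleton] at h5
      rw [h3, h4]
      convert h5 using 4
      · simp_rw [← hp'])
  refine ⟨D, fun i V hi => ?_⟩
  have h1 : D.ideal (W i) = Ideal.span {a i} := by
    apply map_injective_of_isIso ((W i).1.ι.appLE (W i).1 ⊤ (W i).1.ι_preimage_self.ge)
    rw [← ideal_comap D (W i).1.ι (W i) ⟨⊤, isAffineOpen_top _⟩ (W i).1.ι_preimage_self.ge, hD, hI,
      Ideal.map_span, Set.image_singleton]
  rw [← D.map_ideal (U := V) (V := W i) hi, h1, Ideal.map_span, Set.image_singleton]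
  rfl

section

variable {ι : Type*} {W : ι → X.affineOpens} {a : ∀ i, Γ(X, (W i).1)} {D : X.IdealSheafData}

theorem isEffCartierIdeal (hW : ⨆ i, (W i).1 = ⊤)
    (hD : ∀ (i : ι) (V : X.affineOpens) (hi : V.1 ≤ (W i).1), D.ideal V = Ideal.span {ores hi (a i)})
    (ha : ∀ i, a i ∈ nonZeroDivisors Γ(X, (W i).1)) : BlowUp.IsEffCartierIdeal D := by
  intro x
  obtain ⟨i, hi⟩ := Opens.mem_iSup.mp (show x ∈ ⨆ i, (W i).1 by rw [hW]; trivial)
  refine ⟨W i, hi, a i, ha i, ?_⟩
  rw [hD i (W i) le_rfl, ores_refl]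

theorem not_mem_support_iff
    (hD : ∀ (i : ι) (V : X.affineOpens) (hi : V.1 ≤ (W i).1), D.ideal V = Ideal.span {ores hi (a i)})
    {i : ι} {x : X} (hx : x ∈ (W i).1) : x ∉ D.support ↔ x ∈ X.basicOpen (a i) := by
  rw [Scheme.IdealSheafData.mem_support_iff_of_mem (U := W i) hx, hD i (W i) le_rfl, ores_refl]
  simp only [Scheme.zeroLocus_span, Scheme.zeroLocus_singleton]
  simp

/-- the generator of the ideal module -/
theorem exists_gen
    (hD : ∀ (i : ι) (V : X.affineOpens) (hi : V.1 ≤ (W i).1), D.ideal V = Ideal.span {ores hi (a i)})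
    (ha : ∀ i, a i ∈ nonZeroDivisors Γ(X, (W i).1)) (i : ι) :
    ∃ α : Γ(ClSub.idealMod D, (W i).1), val D α = a i ∧ IsGen α := by
  obtain ⟨α, hα⟩ := exists_val_eq D (W i) (a := a i) (by
    rw [hD i (W i) le_rfl, ores_refl]; exact Ideal.mem_span_singleton_self _)
  refine ⟨α, hα, ?_⟩
  have key : ∀ (V : X.Opens) (hV : V ≤ (W i).1), val D (LocGen.res _ hV α) = ores hV (a i) := by
    intro V hV
    rw [← hα]
    exact val_res D hV α
  apply IsGen.of_local
  · intro V hV c d hcd
    have h1 : c * ores hV (a i) = d * ores hV (a i) := by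
      rw [← key, ← val_smul, ← val_smul, hcd]
    refine ores_ext (V := V) (fun V' : {V' : X.affineOpens // V'.1 ≤ V} => V'.1.1) (fun V' => V'.2) ?_ ?_
    · intro x hx
      obtain ⟨V', hV', hxV', hle⟩ := exists_isAffineOpen_mem_and_subset (U := V) (x := x) hx
      exact Opens.mem_iSup.mpr ⟨⟨⟨V', hV'⟩, hle⟩, hxV'⟩
    · intro V'
      have h2 := congrArg (ores V'.2) h1
      rw [map_mul, map_mul, ores_ores] at h2
      have h3 : ores (V'.2.trans hV) (a i) ∈ nonZeroDivisors Γ(X, V'.1.1) :=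
        res_mem_nonZeroDivisors (W i).2 V'.1.2 (V'.2.trans hV) (ha i)
      exact (mul_cancel_right_mem_nonZeroDivisors h3).mp h2
  · intro V hV t x hx
    obtain ⟨V', hV', hxV', hle⟩ := exists_isAffineOpen_mem_and_subset (U := V) (x := x) hx
    have h1 := val_mem D ⟨V', hV'⟩ (LocGen.res _ hle t)
    rw [hD i ⟨V', hV'⟩ (hle.trans hV), Ideal.mem_span_singleton'] at h1
    obtain ⟨c, hc⟩ := h1
    refine ⟨V', hle, hle.trans hV, hxV', c, val_injective D _ ?_⟩
    rw [val_smul, key, hc]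

end

end Groth.Agent.Divis.CartierData
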