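import Groth.Agent.Divis.EffCartier
import Groth.Agent.Divis.CartierBasic
import Mathlib.AlgebraicGeometry.Noetherian
import Mathlib.RingTheory.Localization.Away.Basic

/-!
# Colon ideal sheaves; differences of nested effective Cartier divisors

* `colonSheaf J K hK` for `K` of finite type: `U ↦ (J(U) : K(U))`.
* `mul_colonSheaf`: `J ≤ K`, `K` effective Cartier ⇒ `K * (J : K) = J`.
* `isEff_colonSheaf`: `(J : K)` is effective Cartier when `J ≤ K` are.
* `exists_mul_eq`: on a locally Noetherian scheme nested effective Cartier divisors have a difference.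
* `isEff_of_mul_left`.
-/

set_option autoImplicit false
universe u

open CategoryTheory AlgebraicGeometry Limits

namespace Groth.Agent.Divis.ColonIdeal

theorem exists_uniform {A : Type*} [CommRing A] (S : Submonoid A) (J K : Ideal A) (hK : K.FG)
    (h : ∀ π ∈ K, ∃ u ∈ S, u * π ∈ J) : ∃ u ∈ S, ∀ π ∈ K, u * π ∈ J := by
  induction K, hK using Submodule.fg_induction with
  | singleton x =>
    obtain ⟨u, hu, hux⟩ := h x (Ideal.mem_span_singleton_self x)
    refine ⟨u, hu, fun π hπ => ?_⟩
    obtain ⟨c, rfl⟩ := Ideal.mem_span_singleton'.1 hπ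
    rw [mul_left_comm]
    exact J.mul_mem_left _ hux
  | sup M₁ M₂ h₁ h₂ ih₁ ih₂ =>
    obtain ⟨u₁, hu₁, h₁⟩ := ih₁ (fun π hπ => h π (Ideal.mem_sup_left hπ))
    obtain ⟨u₂, hu₂, h₂⟩ := ih₂ (fun π hπ => h π (Ideal.mem_sup_right hπ))
    refine ⟨u₁ * u₂, mul_mem hu₁ hu₂, fun π hπ => ?_⟩
    obtain ⟨a, ha, b, hb, rfl⟩ := Submodule.mem_sup.1 hπ
    rw [mul_add]
    refine J.add_mem ?_ ?_
    · rw [mul_comm u₁, mul_assoc]; exact J.mul_mem_left _ (h₁ a ha)
    · rw [mul_assoc]; exact J.mul_mem_left _ (h₂ b hb)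

/-- The colon ideal `(J : K)`. -/
def colon {A : Type*} [CommRing A] (J K : Ideal A) : Ideal A where
  carrier := {a | ∀ k ∈ K, a * k ∈ J}
  add_mem' := fun ha hb k hk => by rw [add_mul]; exact J.add_mem (ha k hk) (hb k hk)
  zero_mem' := fun k _ => by rw [zero_mul]; exact J.zero_mem
  smul_mem' := fun c a ha k hk => by
    rw [smul_eq_mul, mul_assoc]; exact J.mul_mem_left _ (ha k hk)

theorem mem_colon {A : Type*} [CommRing A] {J K : Ideal A} {a : A} :
    a ∈ colon J K ↔ ∀ k ∈ K, a * k ∈ J := Iff.rfl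

theorem map_colon {A : Type*} [CommRing A] (S : Submonoid A) (B : Type*) [CommRing B] [Algebra A B]
    [IsLocalization S B] (J K : Ideal A) (hK : K.FG) :
    (colon J K).map (algebraMap A B) = colon (J.map (algebraMap A B)) (K.map (algebraMap A B)) := by
  apply le_antisymm
  · rw [Ideal.map_le_iff_le_comap]
    intro a ha
    rw [Ideal.mem_comap, mem_colon]
    intro k hk
    have : K.map (algebraMap A B) ≤ Submodule.comap (LinearMap.mulLeft B (algebraMap A B a))
        (J.map (algebraMap A B)) := by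
      rw [Ideal.map, Ideal.span_le]
      rintro _ ⟨k, hk, rfl⟩
      change algebraMap A B a * algebraMap A B k ∈ J.map (algebraMap A B)
      rw [← map_mul]
      exact Ideal.mem_map_of_mem _ (ha k hk)
    exact this hk
  · intro b hb
    obtain ⟨⟨a, s⟩, hs⟩ := IsLocalization.surj S b
    have hsu : IsUnit (algebraMap A B s) := IsLocalization.map_units B s
    obtain ⟨u, hu, hJ⟩ := exists_uniform S J (Ideal.span {a} * K)
      ((Submodule.fg_span_singleton a).mul hK) (by
        intro π' hπ'
        obtain ⟨k, hk, rfl⟩ := Ideal.mem_span_singleton_mul.1 hπ'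
        have h1 := mem_colon.1 hb (algebraMap A B k) (Ideal.mem_map_of_mem _ hk)
        have h2 : algebraMap A B (a * k) ∈ J.map (algebraMap A B) := by
          rw [map_mul]
          change (algebraMap A B) ((a, s) : A × S).1 * _ ∈ _
          rw [← hs, mul_right_comm]
          exact Ideal.mul_mem_right _ _ h1
        rwa [IsLocalization.algebraMap_mem_map_algebraMap_iff S] at h2)
    have h3 : u * a ∈ colon J K := fun k hk => by
      rw [mul_assoc]; exact hJ _ (Ideal.mul_mem_mul (Ideal.mem_span_singleton_self a) hk)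
    have h4 := Ideal.mem_map_of_mem (algebraMap A B) h3
    have huu : IsUnit (algebraMap A B u) := IsLocalization.map_units B (⟨u, hu⟩ : S)
    rw [map_mul, Ideal.unit_mul_mem_iff_mem _ huu] at h4
    change (algebraMap A B) ((a, s) : A × S).1 ∈ _ at h4
    rw [← hs, Ideal.mul_unit_mem_iff_mem _ hsu] at h4
    exact h4

theorem colon_span_mul {A : Type*} [CommRing A] {f : A} (hf : f ∈ nonZeroDivisors A) (h : A) :
    colon (Ideal.span {f * h}) (Ideal.span {f}) = Ideal.span {h} := by
  ext a
  rw [mem_colon, Ideal.mem_span_singleton']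
  constructor
  · intro ha
    obtain ⟨c, hc⟩ := Ideal.mem_span_singleton'.1 (ha f (Ideal.mem_span_singleton_self f))
    refine ⟨c, ?_⟩
    have : (c * h - a) * f = 0 := by linear_combination hc
    have := (mem_nonZeroDivisors_iff_right.1 hf) _ this
    exact sub_eq_zero.1 this
  · rintro ⟨c, rfl⟩ k hk
    obtain ⟨d, rfl⟩ := Ideal.mem_span_singleton'.1 hk
    exact Ideal.mem_span_singleton'.2 ⟨c * d, by ring⟩

theorem span_mul_colon {A : Type*} [CommRing A] (f : A) (J : Ideal A) (hJ : J ≤ Ideal.span {f}) :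
    Ideal.span {f} * colon J (Ideal.span {f}) = J := by
  apply le_antisymm
  · rw [Ideal.mul_le]
    intro r hr s hs
    rw [mul_comm]
    exact hs r hr
  · intro j hj
    obtain ⟨c, rfl⟩ := Ideal.mem_span_singleton'.1 (hJ hj)
    rw [mul_comm c f]
    refine Ideal.mul_mem_mul (Ideal.mem_span_singleton_self f) ?_
    intro k hk
    obtain ⟨d, rfl⟩ := Ideal.mem_span_singleton'.1 hk
    rw [mul_left_comm]
    exact J.mul_mem_left _ hj

variable {X : Scheme.{u}}

/-- The colon ideal sheaf. -/
def colonSheaf (J K : X.IdealSheafData) (hK : ∀ U, (K.ideal U).FG) : X.IdealSheafData where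
  ideal U := colon (J.ideal U) (K.ideal U)
  map_ideal_basicOpen := by
    intro U f
    have : IsLocalization.Away f Γ(X, X.basicOpen f) := U.2.isLocalization_basicOpen f
    have h := map_colon (Submonoid.powers f) Γ(X, X.basicOpen f) (J.ideal U) (K.ideal U) (hK U)
    have h1 : (J.ideal U).map (algebraMap Γ(X, U.1) Γ(X, X.basicOpen f)) = J.ideal (X.affineBasicOpen f) :=
      J.map_ideal_basicOpen U f
    have h2 : (K.ideal U).map (algebraMap Γ(X, U.1) Γ(X, X.basicOpen f)) = K.ideal (X.affineBasicOpen f) :=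
      K.map_ideal_basicOpen U f
    rw [h1, h2] at h
    exact h

@[simp] theorem colonSheaf_ideal (J K : X.IdealSheafData) (hK : ∀ U, (K.ideal U).FG) (U : X.affineOpens) :
    (colonSheaf J K hK).ideal U = colon (J.ideal U) (K.ideal U) := rfl

open Groth.Agent.Divis.EffCartier Groth.Agent.Divis.IdealComap

theorem mul_colonSheaf {J K : X.IdealSheafData} (hK : ∀ U, (K.ideal U).FG)
    (hKE : BlowUp.IsEffCartierIdeal K) (hJK : J ≤ K) : K * colonSheaf J K hK = J := by
  refine ext_of_forall_mem fun x => ?_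
  obtain ⟨U, hxU, f, hf, h⟩ := hKE x
  refine ⟨U, hxU, ?_⟩
  rw [Scheme.IdealSheafData.ideal_mul, Pi.mul_apply, colonSheaf_ideal, h]
  exact span_mul_colon f _ (by rw [← h]; exact hJK U)

theorem isEff_colonSheaf {J K : X.IdealSheafData} (hK : ∀ U, (K.ideal U).FG)
    (hKE : BlowUp.IsEffCartierIdeal K) (hJE : BlowUp.IsEffCartierIdeal J) (hJK : J ≤ K) :
    BlowUp.IsEffCartierIdeal (colonSheaf J K hK) := by
  intro x
  obtain ⟨U, hxU, hU⟩ := hKE x
  obtain ⟨V, hxV, hVU, g, hg, hJg⟩ := exists_princAt hJE x U.1 hxU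
  obtain ⟨f, hf, hKf⟩ := PrincAt.mono (V := V) hU hVU
  have h1 : g ∈ Ideal.span {f} := by
    rw [← hKf]; exact hJK V (by rw [hJg]; exact Ideal.mem_span_singleton_self g)
  obtain ⟨c, rfl⟩ := Ideal.mem_span_singleton'.1 h1
  refine ⟨V, hxV, c, ?_, ?_⟩
  · rw [mem_nonZeroDivisors_iff_right] at hg ⊢
    intro a ha
    apply hg
    rw [← mul_assoc, ha, zero_mul]
  · rw [colonSheaf_ideal, hJg, hKf, mul_comm c f]
    exact colon_span_mul hf c

/-- Difference of nested effective Cartier divisors. -/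
theorem exists_mul_eq [IsLocallyNoetherian X] {J K : X.IdealSheafData}
    (hKE : BlowUp.IsEffCartierIdeal K) (hJE : BlowUp.IsEffCartierIdeal J) (hJK : J ≤ K) :
    ∃ L : X.IdealSheafData, BlowUp.IsEffCartierIdeal L ∧ K * L = J := by
  have hK : ∀ U, (K.ideal U).FG := fun U => by
    have : IsNoetherianRing Γ(X, U.1) := IsLocallyNoetherian.component_noetherian U
    exact IsNoetherian.noetherian _
  exact ⟨_, isEff_colonSheaf hK hKE hJE hJK, mul_colonSheaf hK hKE hJK⟩

/-- Ideal sheaves on a Noetherian scheme satisfy the ascending chain condition. -/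
theorem wellFoundedGT [IsNoetherian X] : WellFoundedGT X.IdealSheafData := by
  obtain ⟨s, hs, e⟩ := (isCompact_and_isOpen_iff_finite_and_eq_biUnion_affineOpens (X := X) (U := Set.univ)).1
    ⟨isCompact_univ, isOpen_univ⟩
  have := hs.to_subtype
  have : ∀ i : s, IsNoetherianRing Γ(X, i.1.1) := fun i => IsLocallyNoetherian.component_noetherian i.1
  let F : X.IdealSheafData → ∀ i : s, (Ideal Γ(X, i.1.1))ᵒᵈ := fun I i => OrderDual.toDual (I.ideal i.1)
  have hF : Function.Injective F := by
    intro I J h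
    refine Scheme.IdealSheafData.ext_of_iSup_eq_top (fun i : s => i.1) ?_ (fun i => congrFun h i)
    rw [eq_top_iff]
    intro x _
    have hx : x ∈ (Set.univ : Set X) := trivial
    rw [e] at hx
    simp only [Set.mem_iUnion] at hx
    obtain ⟨i, hi, hxi⟩ := hx
    exact TopologicalSpace.Opens.mem_iSup.2 ⟨⟨i, hi⟩, hxi⟩
  refine ⟨Subrelation.wf (r := InvImage (· < ·) F) ?_ (InvImage.wf _ wellFounded_lt)⟩
  intro I J h
  have h1 : F I ≤ F J := fun i => h.le i.1
  exact lt_of_le_of_ne h1 (fun h2 => h.ne (hF h2).symm)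

end Groth.Agent.Divis.ColonIdeal
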