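import Groth.Agent.Divis.StalkPrime
import Groth.Agent.Divis.CartierStalk
import Mathlib.RingTheory.Ideal.AssociatedPrime.Basic

/-!
# Associated primes of stalk ideals and generizations

* `stalkIdeal_map_stalkSpecializes`: stalk ideal at a generization.
* `mem_maximalIdeal_iff_of_colon`: if `q = (I_x : a)` is a prime of `O_{X,x}` then `m_y = (I_y : a)` at the point `y`
  corresponding to `q`.
* `isAssociatedPrime_stalk_subscheme`: so the maximal ideal is associated to the local ring of the closed
  subscheme at `y`.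
-/

set_option autoImplicit false
universe u

open CategoryTheory CategoryTheory.Limits AlgebraicGeometry TopologicalSpace

namespace Groth.Agent.Divis.StalkAssoc

open Groth.Agent.Divis.CartierBasic Groth.Agent.Divis.CartierStalk Groth.Agent.CycB.LocQuot

variable {X : Scheme.{u}}

theorem stalkIdeal_map_stalkSpecializes (I : X.IdealSheafData) {x y : X} (h : y ⤳ x) :
    (stalkIdeal I x).map (X.presheaf.stalkSpecializes h).hom = stalkIdeal I y := by
  obtain ⟨U, hxU⟩ := exists_affine x
  rw [stalkIdeal_eq I U hxU, stalkIdeal_eq I U (h.mem_open U.1.2 hxU), Ideal.map_map,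
    ← CommRingCat.hom_comp, TopCat.Presheaf.germ_stalkSpecializes]

/-- Algebra: localizing at a prime of the form `(I : a)`. -/
theorem mem_maximalIdeal_iff_of_colon' {A : Type*} [CommRing A] (q : Ideal A) [q.IsPrime]
    (B : Type*) [CommRing B] [Algebra A B] [IsLocalization.AtPrime B q] [IsLocalRing B] (I : Ideal A) (a : A)
    (h : ∀ r, r ∈ q ↔ r * a ∈ I) (s : B) :
    s ∈ IsLocalRing.maximalIdeal B ↔ s * algebraMap A B a ∈ I.map (algebraMap A B) := by
  obtain ⟨⟨r, t⟩, ht⟩ := IsLocalization.surj q.primeCompl s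
  have htu : IsUnit (algebraMap A B t) := IsLocalization.map_units B t
  have h1 : s ∈ IsLocalRing.maximalIdeal B ↔ r ∈ q := by
    rw [← IsLocalization.AtPrime.to_map_mem_maximal_iff B q r, ← ht]
    exact (Ideal.mul_unit_mem_iff_mem _ htu).symm
  have h2 : s * algebraMap A B a ∈ I.map (algebraMap A B) ↔
      algebraMap A B (r * a) ∈ I.map (algebraMap A B) := by
    rw [map_mul]
    change _ ↔ (algebraMap A B) ((r, t) : A × q.primeCompl).1 * _ ∈ _
    rw [← ht, mul_right_comm]
    exact (Ideal.mul_unit_mem_iff_mem _ htu).symm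
  rw [h1, h2, IsLocalization.algebraMap_mem_map_algebraMap_iff q.primeCompl, h]
  constructor
  · intro h3
    exact ⟨1, one_mem _, by simpa using h3⟩
  · rintro ⟨u, hu, h3⟩
    have h4 : u * r ∈ q := by rw [h, mul_assoc]; exact h3
    rcases Ideal.IsPrime.mem_or_mem ‹_› h4 with h5 | h5
    · exact absurd h5 hu
    · exact (h r).1 h5

theorem mem_maximalIdeal_iff_of_colon (I : X.IdealSheafData) {x : X}
    (q : PrimeSpectrum (X.presheaf.stalk x)) (a : X.presheaf.stalk x)
    (h : ∀ r, r ∈ q.asIdeal ↔ r * a ∈ stalkIdeal I x) (s : X.presheaf.stalk (ptOf q)) :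
    s ∈ IsLocalRing.maximalIdeal (X.presheaf.stalk (ptOf q)) ↔
      s * (X.presheaf.stalkSpecializes (ptOf_specializes q)).hom a ∈ stalkIdeal I (ptOf q) := by
  let := (X.presheaf.stalkSpecializes (ptOf_specializes q)).hom.toAlgebra
  have hloc : IsLocalization.AtPrime (X.presheaf.stalk (ptOf q))
    (RingHom.ker (Cyc.specMap x (ptOf q) (ptOf_specializes q))) :=
      isLocalization_stalkSpecializes (ptOf_specializes q)
  rw [← stalkIdeal_map_stalkSpecializes I (ptOf_specializes q)]
  refine mem_maximalIdeal_iff_of_colon' (RingHom.ker (Cyc.specMap x (ptOf q) (ptOf_specializes q)))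
    (X.presheaf.stalk (ptOf q)) (stalkIdeal I x) a ?_ s
  rw [← primeOf_asIdeal, primeOf_ptOf]
  exact h

theorem isAssociatedPrime_stalk_subscheme (I : X.IdealSheafData) (z : I.subscheme)
    (b : X.presheaf.stalk (I.subschemeι z))
    (h : ∀ s, s ∈ IsLocalRing.maximalIdeal (X.presheaf.stalk (I.subschemeι z)) ↔
      s * b ∈ stalkIdeal I (I.subschemeι z)) :
    IsAssociatedPrime (IsLocalRing.maximalIdeal ↑(I.subscheme.presheaf.stalk z))
      ↑(I.subscheme.presheaf.stalk z) := by
  refine ⟨inferInstance, (I.subschemeι.stalkMap z).hom b, ?_⟩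
  have h1 : IsLocalRing.maximalIdeal ↑(I.subscheme.presheaf.stalk z) =
      (⊥ : Submodule ↑(I.subscheme.presheaf.stalk z) ↑(I.subscheme.presheaf.stalk z)).colon
        {(I.subschemeι.stalkMap z).hom b} := by
    ext s
    obtain ⟨s, rfl⟩ := stalkMap_subschemeι_surjective I z s
    rw [Submodule.mem_colon_singleton, Submodule.mem_bot, smul_eq_mul, ← map_mul, ← RingHom.mem_ker,
      ker_stalkMap_subschemeι, ← h, IsLocalRing.mem_maximalIdeal, IsLocalRing.mem_maximalIdeal,
      mem_nonunits_iff, mem_nonunits_iff, not_iff_not]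
    constructor
    · intro h2
      exact IsLocalHom.map_nonunit (f := (I.subschemeι.stalkMap z).hom) _ h2
    · intro h2
      exact h2.map _
  rw [← h1]
  exact (Ideal.IsPrime.radical inferInstance).symm

end Groth.Agent.Divis.StalkAssoc
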