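import Groth.Agent.Divis.ColonIdeal
import Groth.Agent.Divis.StalkAssoc
import Groth.Agent.Divis.CartierDim

/-!
# Effective Cartier divisors and integral effective Cartier divisors

* `exists_generic`: a nonempty closed subscheme has a maximal (generic) point specializing to a given point.
* `stalkIdeal_eq_maximalIdeal`: an integral effective Cartier divisor through a maximal point `ξ` of an
  effective Cartier divisor has stalk ideal `m_ξ`.
* `le_of_support_le`: `D ≤ E` if `E` is integral and `E.support ≤ D.support`.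
* `ne_of_mul_eq`.
-/

set_option autoImplicit false
universe u

open CategoryTheory AlgebraicGeometry Limits

namespace Groth.Agent.Divis.EffIntegral

open Groth.Agent.Divis.CartierBasic Groth.Agent.Divis.CartierStalk Groth.Agent.CycB.LocQuot
  Groth.Agent.Divis.StalkPrime Groth.Agent.Divis.CartierDim

variable {X : Scheme.{u}}

/-- Every point of the support of `I` is a specialization of a maximal point of the support. -/
theorem exists_generic (I : X.IdealSheafData) {x : X} (hx : x ∈ I.support) :
    ∃ ξ ∈ I.support, ξ ⤳ x ∧ ∀ y ∈ (I.support : Set X), y ⤳ ξ → y = ξ := by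
  obtain ⟨q, hq, hqm⟩ := Ideal.exists_minimalPrimes_le ((mem_support_iff_stalkIdeal_le I x).1 hx)
  have hqp : q.IsPrime := hq.1.1
  refine ⟨ptOf ⟨q, hqp⟩, ?_, ptOf_specializes _, ?_⟩
  · rw [ptOf, fromSpecStalk_mem_support_iff]
    exact hq.1.2
  · intro y hy hyq
    have h1 : y ⤳ x := hyq.trans (ptOf_specializes _)
    have h2 : ptOf (primeOf h1) ∈ I.support := by rw [ptOf_primeOf]; exact hy
    rw [ptOf, fromSpecStalk_mem_support_iff] at h2
    have h3 : ptOf (primeOf h1) ⤳ ptOf (⟨q, hqp⟩ : PrimeSpectrum (X.presheaf.stalk x)) := by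
      rw [ptOf_primeOf]; exact hyq
    rw [ptOf_specializes_iff] at h3
    have h4 : (primeOf h1) = (⟨q, hqp⟩ : PrimeSpectrum (X.presheaf.stalk x)) := by
      refine le_antisymm h3 ?_
      exact hq.2 ⟨(primeOf h1).isPrime, h2⟩ h3
    rw [← ptOf_primeOf h1, h4]

/-- In a Noetherian local ring of dimension at most one, a prime generated by a nonzerodivisor is maximal. -/
theorem eq_maximalIdeal_of_dim_le_one {R : Type*} [CommRing R] [IsLocalRing R]
    (hdim : ringKrullDim R ≤ 1) (q : Ideal R) [hq : q.IsPrime] (g : R) (hg : g ∈ nonZeroDivisors R) (hgq : g ∈ q) :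
    q = IsLocalRing.maximalIdeal R := by
  by_contra hne
  have hlt : q < IsLocalRing.maximalIdeal R := lt_of_le_of_ne (IsLocalRing.le_maximalIdeal hq.ne_top) hne
  rw [← IsLocalRing.maximalIdeal_height_eq_ringKrullDim] at hdim
  have hdim' : (IsLocalRing.maximalIdeal R).height ≤ 1 := by exact_mod_cast hdim
  have h1 : q.height + 1 ≤ 1 := (Ideal.height_add_one_le_of_lt_of_isPrime hlt).trans hdim'
  have h2 : q.height = 0 := by
    have h3 : q.height + 1 ≤ 0 + 1 := by rwa [zero_add]
    exact le_antisymm ((WithTop.add_le_add_iff_right (by decide)).1 h3) bot_le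
  rw [Ideal.height_eq_zero_iff] at h2
  exact Set.disjoint_left.1 (Ideal.disjoint_nonZeroDivisors_of_mem_minimalPrimes h2) hgq hg

/-- An integral effective Cartier divisor `E` through a maximal point `ξ` of an effective Cartier divisor
has stalk ideal `m_ξ`. -/
theorem stalkIdeal_eq_maximalIdeal [IsLocallyNoetherian X] {D E : X.IdealSheafData}
    (hD : BlowUp.IsEffCartierIdeal D) (hE : BlowUp.IsEffCartierIdeal E) [IsIntegral E.subscheme]
    {ξ : X} (hξD : ξ ∈ D.support) (hgen : ∀ y ∈ (D.support : Set X), y ⤳ ξ → y = ξ) (hξE : ξ ∈ E.support) :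
    stalkIdeal E ξ = IsLocalRing.maximalIdeal (X.presheaf.stalk ξ) := by
  obtain ⟨g, hg, h⟩ := exists_stalkIdeal_eq_span hD ξ
  obtain ⟨g', hg', h'⟩ := exists_stalkIdeal_eq_span hE ξ
  have hdim := ringKrullDim_stalk_le_one D ξ hξD hgen g h
  have := isPrime_stalkIdeal E hξE
  exact eq_maximalIdeal_of_dim_le_one hdim _ g' hg' (by rw [h']; exact Ideal.mem_span_singleton_self g')

theorem radical_eq_self (E : X.IdealSheafData) [IsIntegral E.subscheme] : E.radical = E := by
  ext U : 2
  rw [Scheme.IdealSheafData.radical_ideal]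
  by_cases h : ∃ x ∈ U.1, x ∈ E.support
  · obtain ⟨x, hxU, hx⟩ := h
    exact (isPrime_ideal E U x hxU hx).radical
  · push Not at h
    have h1 : E.ideal U = ⊤ := by
      rw [U.2.ideal_ext_iff]
      intro x hxU
      rw [← stalkIdeal_eq E U hxU, (notMem_support_iff_stalkIdeal_eq_top E x).1 (h x hxU), Ideal.map_top]
    rw [h1, Ideal.radical_top]

theorem le_of_support_le {D E : X.IdealSheafData} [IsIntegral E.subscheme] (h : E.support ≤ D.support) :
    D ≤ E := by
  have h1 := Scheme.IdealSheafData.le_support_iff_le_vanishingIdeal.1 h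
  rwa [Scheme.IdealSheafData.vanishingIdeal_support, radical_eq_self] at h1

theorem support_le_of_mem {D E : X.IdealSheafData} [IsIntegral E.subscheme]
    (h : E.subschemeι (genericPoint E.subscheme) ∈ D.support) : E.support ≤ D.support := by
  intro y hy
  obtain ⟨z, rfl⟩ := exists_subscheme_apply_eq E hy
  exact ((genericPoint_specializes z).map E.subschemeι.continuous).mem_closed D.support.isClosed h

/-- Multiplying an effective Cartier ideal by a proper ideal changes it. -/
theorem ne_of_mul_eq [IsLocallyNoetherian X] {D E L : X.IdealSheafData} (hL : BlowUp.IsEffCartierIdeal L)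
    (h : E * L = D) (hne : (E.support : Set X).Nonempty) : L ≠ D := by
  rintro rfl
  obtain ⟨ξ, hξ⟩ := hne
  have h1 : stalkIdeal E ξ * stalkIdeal L ξ = stalkIdeal L ξ := by
    rw [← stalkIdeal_mul, h]
  obtain ⟨g, hg, h2⟩ := exists_stalkIdeal_eq_span hL ξ
  have h3 : stalkIdeal L ξ = ⊥ := by
    refine Submodule.eq_bot_of_le_smul_of_le_jacobson_bot (stalkIdeal E ξ) (stalkIdeal L ξ) ?_ ?_ ?_
    · rw [h2]; exact Submodule.fg_span_singleton g
    · rw [smul_eq_mul, h1]
    · rw [IsLocalRing.jacobson_eq_maximalIdeal _ bot_ne_top]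
      exact (mem_support_iff_stalkIdeal_le E ξ).1 hξ
  rw [h2] at h3
  exact nonZeroDivisors.ne_zero hg (Ideal.span_singleton_eq_bot.1 h3)

end Groth.Agent.Divis.EffIntegral
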