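import Groth.Agent.Divis.ExtendTwo

/-!
# Extension of sections of coherent modules: stalkwise conditions
-/

set_option autoImplicit false
universe u
open CategoryTheory CategoryTheory.Limits AlgebraicGeometry TopologicalSpace Opposite

namespace Groth.Agent.Divis.ExtendStalk

open Groth.Agent.CohqB.QC2 Groth.Agent.Divis.DepthTwo Groth.Agent.Divis.ExtendTwo
open Groth.Agent.Divis.StalkMod

section algebra

variable {A : Type*} [CommRing A] {N : Type*} [AddCommGroup N] [Module A N]

theorem regPair_of_units {a b a' b' : A} {u v : A} (hu : IsUnit u) (hv : IsUnit v)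
    (ha : a' = u * a) (hb : b' = v * b) (h : RegPair a b N) : RegPair a' b' N := by
  obtain ⟨u, rfl⟩ := hu
  obtain ⟨v, rfl⟩ := hv
  subst ha hb
  refine ⟨fun x hx => ?_, fun x y hxy => ?_⟩
  · rw [mul_smul] at hx
    exact h.inj x (eq_zero_of_isUnit_smul u.isUnit hx)
  · obtain ⟨z, hz⟩ := h.div x ((↑v⁻¹ * ↑u : A) • y) (by
      rw [smul_smul, mul_comm a, mul_assoc, mul_smul, ← hxy, smul_smul, ← mul_assoc,
        Units.inv_mul, one_mul])
    refine ⟨(↑u⁻¹ : A) • z, ?_⟩
    rw [smul_smul, mul_comm (u : A) a, mul_assoc, Units.mul_inv, mul_one, hz]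

variable {R : Type*} [CommRing R] [Algebra R A] {M : Type*} [AddCommGroup M] [Module R M]
  [Module R N] [IsScalarTower R A N]

/-- A regular pair in the maximal ideal for a localization gives one with elements of the prime. -/
theorem exists_regPair_localizedModule (p : Ideal R) [p.IsPrime] [IsLocalization.AtPrime A p]
    [IsLocalRing A] (l : M →ₗ[R] N) [IsLocalizedModule p.primeCompl l]
    (h : ∃ a ∈ IsLocalRing.maximalIdeal A, ∃ b ∈ IsLocalRing.maximalIdeal A, RegPair a b N) :
    ∃ a ∈ p, ∃ b ∈ p, RegPair a b (LocalizedModule p.primeCompl M) := by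
  obtain ⟨a, ha, b, hb, hab⟩ := h
  have key : ∀ c ∈ IsLocalRing.maximalIdeal A, ∃ c' ∈ p, ∃ u : A, IsUnit u ∧
      algebraMap R A c' = u * c := by
    intro c hc
    obtain ⟨⟨c', s⟩, hs⟩ := IsLocalization.surj p.primeCompl c
    simp only at hs
    refine ⟨c', ?_, algebraMap R A s, IsLocalization.map_units A s, by rw [← hs, mul_comm]⟩
    rw [← IsLocalization.AtPrime.to_map_mem_maximal_iff A p, ← hs]
    exact Ideal.mul_mem_right _ _ hc
  obtain ⟨a', ha', u, hu, hua⟩ := key a ha
  obtain ⟨b', hb', v, hv, hvb⟩ := key b hb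
  refine ⟨a', ha', b', hb', ?_⟩
  have h1 := regPair_of_units hu hv hua hvb hab
  have h2 : RegPair a' b' N := by
    refine ⟨fun x hx => h1.inj x (by rw [algebraMap_smul]; exact hx), fun x y hxy => ?_⟩
    obtain ⟨z, hz⟩ := h1.div x y (by rw [algebraMap_smul, algebraMap_smul]; exact hxy)
    exact ⟨z, by rw [hz, algebraMap_smul]⟩
  exact h2.congr (IsLocalizedModule.iso p.primeCompl l).symm

end algebra

variable {X : Scheme.{u}}

/-- Sections of a coherent module extend across a closed subset at whose points the stalks have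
regular pairs. -/
theorem good_of_stalk [IsLocallyNoetherian X] {M : X.Modules} (hM : Coh.IsCoh M) (U : X.Opens)
    {W : X.Opens} (hW : IsAffineOpen W)
    (h : ∀ x ∈ W, x ∉ U → ∃ a ∈ IsLocalRing.maximalIdeal (X.presheaf.stalk x),
      ∃ b ∈ IsLocalRing.maximalIdeal (X.presheaf.stalk x), RegPair a b (M.presheaf.stalk x)) :
    Good M U W := by
  have hNoeth : IsNoetherianRing Γ(X, W) := IsLocallyNoetherian.component_noetherian ⟨W, hW⟩
  have hfin := finite_sections hM hW
  let Z : Set (PrimeSpectrum Γ(X, W)) := {p | hW.fromSpec p ∉ U}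
  have hZ : IsClosed Z := by
    have : Z = ((hW.fromSpec ⁻¹ᵁ U : (Spec Γ(X, W)).Opens) : Set (Spec Γ(X, W)))ᶜ := rfl
    rw [this]
    exact (hW.fromSpec ⁻¹ᵁ U).isOpen.isClosed_compl
  let I : Ideal Γ(X, W) := PrimeSpectrum.vanishingIdeal Z
  have hI : ∀ f ∈ I, X.basicOpen f ≤ U := by
    intro f hf x hx
    have hxW : x ∈ W := X.basicOpen_le f hx
    by_contra hxU
    have hpZ : hW.primeIdealOf ⟨x, hxW⟩ ∈ Z := by
      change hW.fromSpec _ ∉ U
      rw [hW.fromSpec_primeIdealOf]
      exact hxU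
    have h1 := (PrimeSpectrum.mem_vanishingIdeal _ _).mp hf _ hpZ
    exact (Groth.Agent.Fdesc.QCohStalk.mem_basicOpen_iff hW x hxW f).mp hx h1
  obtain ⟨f, hf, g, hg, hfg⟩ := exists_regPair (M := Γ(M, W)) I (by
    intro p hp hle
    let P : PrimeSpectrum Γ(X, W) := ⟨p, hp⟩
    have hPZ : P ∈ Z := by
      have : P ∈ PrimeSpectrum.zeroLocus (I : Set Γ(X, W)) := hle
      rwa [PrimeSpectrum.zeroLocus_vanishingIdeal_eq_closure, hZ.closure_eq] at this
    let x := hW.fromSpec P
    have hxW : x ∈ W := by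
      have : x ∈ hW.fromSpec.opensRange := ⟨P, rfl⟩
      rwa [hW.opensRange_fromSpec] at this
    have hxP : hW.primeIdealOf ⟨x, hxW⟩ = P := by
      apply hW.fromSpec.isOpenEmbedding.injective
      rw [hW.fromSpec_primeIdealOf]
    have hx := h x hxW hPZ
    have hgoal : ∃ a ∈ (hW.primeIdealOf ⟨x, hxW⟩).asIdeal, ∃ b ∈ (hW.primeIdealOf ⟨x, hxW⟩).asIdeal,
        RegPair a b (LocalizedModule (hW.primeIdealOf ⟨x, hxW⟩).asIdeal.primeCompl Γ(M, W)) := by
      refine stalk_elim M hM.1 hW x hxW ?_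
      intro _ _ _ _ l _ _ _
      exact exists_regPair_localizedModule (A := X.presheaf.stalk x) _ l hx
    rw [hxP] at hgoal
    exact hgoal)
  exact ⟨f, g, hI f hf, hI g hg, hfg⟩

/-- Hartogs' lemma for coherent modules with regular pairs off `U`. -/
theorem bijective_of_stalk [IsLocallyNoetherian X] {M : X.Modules} (hM : Coh.IsCoh M)
    (U : X.Opens)
    (h : ∀ x : X, x ∉ U → ∃ a ∈ IsLocalRing.maximalIdeal (X.presheaf.stalk x),
      ∃ b ∈ IsLocalRing.maximalIdeal (X.presheaf.stalk x), RegPair a b (M.presheaf.stalk x))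
    (V : X.Opens) : Function.Bijective (res M (inf_le_left : V ⊓ U ≤ V)) := by
  apply bijective_of_affine
  intro W hW
  have hq : SheafOfModules.IsQuasicoherent (R := X.ringCatSheaf) M := hM.1
  exact (good_of_stalk hM U hW (fun x _ hx => h x hx)).bijective M (loc_of_isQuasicoherent M hW) hW

/-- `depth ≥ 2` in terms of regular pairs. -/
theorem exists_regPair_of_two_le_depth {A : Type*} [CommRing A] [IsLocalRing A]
    {N : Type*} [AddCommGroup N] [Module A N] [Module.Finite A N] (h : 2 ≤ LocCoh.depth A N) :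
    ∃ a ∈ IsLocalRing.maximalIdeal A, ∃ b ∈ IsLocalRing.maximalIdeal A, RegPair a b N := by
  by_cases hN : IsLocalRing.maximalIdeal A • (⊤ : Submodule A N) = ⊤
  · have hbot : (⊤ : Submodule A N) = ⊥ :=
      Submodule.eq_bot_of_le_smul_of_le_jacobson_bot (IsLocalRing.maximalIdeal A) ⊤
        Module.Finite.fg_top hN.ge (IsLocalRing.maximalIdeal_le_jacobson _)
    have : Subsingleton N := by
      rw [← Submodule.subsingleton_iff A]
      exact subsingleton_of_bot_eq_top hbot.symm
    exact ⟨0, zero_mem _, 0, zero_mem _, RegPair.of_subsingleton⟩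
  · exact exists_regPair_of_two_le_idealDepth hN h

end Groth.Agent.Divis.ExtendStalk
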