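import Groth.Agent.Divis.StalkMod
import Groth.Agent.CohqB.QC2

/-!
# Extension of sections of quasi-coherent modules across a closed subset of depth at least two
-/

set_option autoImplicit false
universe u
open CategoryTheory CategoryTheory.Limits AlgebraicGeometry TopologicalSpace Opposite

namespace Groth.Agent.Divis.ExtendTwo

open Groth.Agent.CohqB.QC2 Groth.Agent.Divis.DepthTwo

variable {X : Scheme.{u}}

section affine

variable (M : X.Modules) {W : X.Opens}

theorem eq_zero_of_isUnit_smul {R : Type*} [CommRing R] {N : Type*} [AddCommGroup N] [Module R N]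
    {u : R} (hu : IsUnit u) {n : N} (h : u • n = 0) : n = 0 := by
  obtain ⟨u, rfl⟩ := hu
  have := congr((↑u⁻¹ : R) • $h)
  rwa [smul_smul, Units.inv_mul, one_smul, smul_zero] at this

theorem isUnit_resR_basicOpen {U : X.Opens} (f : Γ(X, U)) :
    IsUnit (resR (X.basicOpen_le f) f) :=
  RingedSpace.isUnit_res_basicOpen _ f

theorem isUnit_resR_of_le {U V : X.Opens} (f : Γ(X, U)) (h : V ≤ U) (hV : V ≤ X.basicOpen f) :
    IsUnit (resR h f) := by
  have := (isUnit_resR_basicOpen f).map (resR (X := X) hV)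
  rwa [resR_resR] at this

/-- Basic opens cover. -/
theorem exists_basicOpen_cover (hW : IsAffineOpen W) {V : X.Opens} (h : V ≤ W) :
    V ≤ ⨆ k : {k : Γ(X, W) // X.basicOpen k ≤ V}, X.basicOpen k.1 := by
  intro x hx
  obtain ⟨k, hk, hxk⟩ := hW.exists_basicOpen_le ⟨x, hx⟩ (h hx)
  exact Opens.mem_iSup.mpr ⟨⟨k, hk⟩, hxk⟩

/-- If `f` is regular on the sections over the affine `W`, then restriction from an open `V ≤ W` to
`D(f) ≤ V` is injective. -/
theorem eq_zero_of_res_basicOpen_eq_zero (hM : Loc M W) (hW : IsAffineOpen W) {V : X.Opens}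
    (h : V ≤ W) (f : Γ(X, W)) (hf : ∀ x : Γ(M, W), f • x = 0 → x = 0) (hfV : X.basicOpen f ≤ V)
    (t : Γ(M, V)) (ht : res M hfV t = 0) : t = 0 := by
  have hfn : ∀ (n : ℕ) (x : Γ(M, W)), f ^ n • x = 0 → x = 0 := by
    intro n
    induction n with
    | zero => intro x hx; simpa using hx
    | succ n ih =>
      intro x hx
      apply ih
      apply hf
      rw [← mul_smul, ← pow_succ', hx]
  apply section_ext M (fun k : {k : Γ(X, W) // X.basicOpen k ≤ V} => X.basicOpen k.1)
    (fun k => k.2) (exists_basicOpen_cover hW h)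
  rintro ⟨k, hk⟩
  simp only
  rw [map_zero]
  obtain ⟨n, m, hm⟩ := hM.exists_lift k (res M hk t)
  -- `m` vanishes on `D(k f)`
  have h1 : res M (X.basicOpen_le (k * f)) m = 0 := by
    have hle : X.basicOpen (k * f) ≤ X.basicOpen k := by
      rw [Scheme.basicOpen_mul]; exact inf_le_left
    have hle' : X.basicOpen (k * f) ≤ X.basicOpen f := by
      rw [Scheme.basicOpen_mul]; exact inf_le_right
    rw [← res_res M (X.basicOpen_le k) hle, hm, res_smul, res_res,
      ← res_res M hfV hle', ht, map_zero, smul_zero]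
  obtain ⟨l, hl⟩ := hM.eq_zero _ _ h1
  rw [mul_pow, mul_comm, mul_smul] at hl
  have h2 := hfn l _ hl
  have h3 : res M (X.basicOpen_le k) m = 0 := by
    apply eq_zero_of_isUnit_smul ((isUnit_resR_basicOpen k).pow l)
    rw [← map_pow, ← res_smul, h2, map_zero]
  rw [h3] at hm
  exact eq_zero_of_isUnit_smul ((isUnit_resR_basicOpen k).pow n) hm.symm

/-- Extension of sections in the presence of a regular pair: affine case. -/
theorem exists_res_eq (hM : Loc M W) (hW : IsAffineOpen W) {V : X.Opens}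
    (h : V ≤ W) {f g : Γ(X, W)} (hfg : RegPair f g Γ(M, W)) (hfV : X.basicOpen f ≤ V)
    (hgV : X.basicOpen g ≤ V) (s : Γ(M, V)) : ∃ m : Γ(M, W), res M h m = s := by
  obtain ⟨n, m, hm⟩ := hM.exists_lift f (res M hfV s)
  obtain ⟨k, m', hm'⟩ := hM.exists_lift g (res M hgV s)
  -- `f ^ n • s = m` on `V`
  have h1 : resR h f ^ n • s = res M h m := by
    rw [← sub_eq_zero]
    apply eq_zero_of_res_basicOpen_eq_zero M hM hW h f hfg.inj hfV
    rw [map_sub, sub_eq_zero, res_smul, map_pow, resR_resR, res_res, hm]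
  have h2 : res M (X.basicOpen_le g) (g ^ k • m - f ^ n • m') = 0 := by
    have h3 := congr(res M hgV $h1)
    rw [res_smul, map_pow, resR_resR, res_res] at h3
    rw [map_sub, res_smul, res_smul, hm', ← h3, map_pow, map_pow, smul_comm, sub_self]
  obtain ⟨l, hl⟩ := hM.eq_zero _ _ h2
  rw [smul_sub, sub_eq_zero, ← mul_smul, ← pow_add, smul_comm] at hl
  obtain ⟨m₀, hm₀⟩ := (hfg.pow n (l + k)).div _ _ hl
  refine ⟨m₀, ?_⟩
  rw [← sub_eq_zero]
  apply eq_zero_of_res_basicOpen_eq_zero M hM hW h f hfg.inj hfV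
  apply eq_zero_of_isUnit_smul ((isUnit_resR_basicOpen f).pow n)
  rw [map_sub, smul_sub, res_res, ← map_pow, ← res_smul, ← hm₀, map_pow, hm, sub_self]

/-- Existence of a regular pair of sections whose nonvanishing loci are contained in `U`. -/
def Good (M : X.Modules) (U W : X.Opens) : Prop :=
  ∃ f g : Γ(X, W), X.basicOpen f ≤ U ∧ X.basicOpen g ≤ U ∧ RegPair f g Γ(M, W)

theorem Good.bijective {U W : X.Opens} (hgood : Good M U W) (hM : Loc M W) (hW : IsAffineOpen W) :
    Function.Bijective (res M (inf_le_left : W ⊓ U ≤ W)) := by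
  obtain ⟨f, g, hf, hg, hfg⟩ := hgood
  have hf' : X.basicOpen f ≤ W ⊓ U := le_inf (X.basicOpen_le f) hf
  have hg' : X.basicOpen g ≤ W ⊓ U := le_inf (X.basicOpen_le g) hg
  refine ⟨?_, fun s => exists_res_eq M hM hW _ hfg hf' hg' s⟩
  rw [injective_iff_map_eq_zero]
  intro t ht
  apply eq_zero_of_res_basicOpen_eq_zero M hM hW le_rfl f hfg.inj (X.basicOpen_le f)
  rw [← res_res M (inf_le_left : W ⊓ U ≤ W) hf', ht, map_zero]

end affine

section global

variable (M : X.Modules)

/-- If restriction to `W ⊓ U` is bijective for all affine opens `W`, then it is so for all opens. -/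
theorem bijective_of_affine (U : X.Opens)
    (h : ∀ W : X.Opens, IsAffineOpen W → Function.Bijective (res M (inf_le_left : W ⊓ U ≤ W)))
    (V : X.Opens) : Function.Bijective (res M (inf_le_left : V ⊓ U ≤ V)) := by
  have hcov : ∀ V : X.Opens, V ≤ ⨆ W : {W : X.Opens // IsAffineOpen W ∧ W ≤ V}, W.1 := by
    intro V x hx
    obtain ⟨W, hW, hxW, hWV⟩ := exists_isAffineOpen_mem_and_subset (x := x) (U := V) hx
    exact Opens.mem_iSup.mpr ⟨⟨W, hW, hWV⟩, hxW⟩
  have hinj : ∀ V : X.Opens, Function.Injective (res M (inf_le_left : V ⊓ U ≤ V)) := by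
    intro V
    rw [injective_iff_map_eq_zero]
    intro t ht
    apply section_ext M _ (fun W : {W : X.Opens // IsAffineOpen W ∧ W ≤ V} => W.2.2) (hcov V)
    rintro ⟨W, hW, hWV⟩
    simp only
    rw [map_zero]
    apply (injective_iff_map_eq_zero _).mp (h W hW).1
    rw [res_res, ← res_res M (inf_le_left : V ⊓ U ≤ V) (inf_le_inf_right U hWV), ht, map_zero]
  refine ⟨hinj V, fun s => ?_⟩
  choose m hm using fun W : {W : X.Opens // IsAffineOpen W ∧ W ≤ V} =>
    (h W.1 W.2.1).2 (res M (inf_le_inf_right U W.2.2) s)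
  obtain ⟨t, ht⟩ := exists_glue M _ (fun W : {W : X.Opens // IsAffineOpen W ∧ W ≤ V} => W.2.2)
    (hcov V) m (by
      intro W W'
      apply hinj
      rw [res_res, res_res,
        ← res_res M (inf_le_left : W.1 ⊓ U ≤ W.1) (inf_le_inf_right U inf_le_left), hm,
        ← res_res M (inf_le_left : W'.1 ⊓ U ≤ W'.1) (inf_le_inf_right U inf_le_right), hm,
        res_res, res_res])
  refine ⟨t, ?_⟩
  apply section_ext M (fun W : {W : X.Opens // IsAffineOpen W ∧ W ≤ V} => W.1 ⊓ U)
    (fun W => inf_le_inf_right U W.2.2) (by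
      rw [← iSup_inf_eq]
      exact inf_le_inf_right U (hcov V))
  intro W
  rw [res_res, ← hm, ← ht, res_res]

end global

end Groth.Agent.Divis.ExtendTwo
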