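import Groth.Agent.Divis.ReflexSheaf

/-!
# Coherent modules which are reflexive on an open and have the extension property are reflexive
-/

set_option autoImplicit false
universe u
open CategoryTheory CategoryTheory.Limits AlgebraicGeometry TopologicalSpace Opposite

namespace Groth.Agent.Divis.ReflexExtend

open Groth.Agent.CohqB.QC2 Groth.Agent.Divis.DepthTwo Groth.Agent.Divis.ExtendTwo
open Groth.Agent.Divis.StalkMod Groth.Agent.Divis.ReflexAlg Groth.Agent.Divis.ExtendStalk
open Groth.Agent.Divis.ReflexSheaf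

variable {X : Scheme.{u}}

theorem germ_res (M : X.Modules) {U V : X.Opens} (h : V ≤ U) (x : X) (hx : x ∈ V) (m : Γ(M, U)) :
    M.presheaf.germ V x hx (res M h m) = M.presheaf.germ U x (h hx) m :=
  TopCat.Presheaf.germ_res_apply _ _ _ _ _

/-- A section is zero if its germs are. -/
theorem eq_zero_of_germ (M : X.Modules) {U : X.Opens} (m : Γ(M, U))
    (h : ∀ (x : X) (hx : x ∈ U), M.presheaf.germ U x hx m = 0) : m = 0 := by
  apply TopCat.Presheaf.section_ext ⟨_, M.isSheaf⟩ U
  intro x hx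
  have := h x hx
  exact this.trans (map_zero (M.presheaf.germ U x hx).hom).symm

/-- Sections over an affine open of a module that is reflexive at the points of `U` and has the
extension property for `U`. -/
theorem isReflexive_sections [IsIntegral X] [IsLocallyNoetherian X] {F : X.Modules}
    (hF : Coh.IsCoh F) (U : X.Opens)
    (hU : ∀ x ∈ U, Module.IsReflexive (X.presheaf.stalk x) (F.presheaf.stalk x))
    {V : X.Opens} (hV : IsAffineOpen V)
    (hext : Function.Bijective (res F (inf_le_left : V ⊓ U ≤ V))) :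
    Module.IsReflexive Γ(X, V) Γ(F, V) := by
  by_cases hVU : ∃ x, x ∈ V ⊓ U
  swap
  · -- no points
    have hsub : Subsingleton Γ(F, V) := by
      have h1 : Subsingleton Γ(F, V ⊓ U) := by
        refine ⟨fun a b => ?_⟩
        rw [← sub_eq_zero]
        apply eq_zero_of_germ
        intro x hx
        exact absurd ⟨x, hx⟩ hVU
      exact hext.1.subsingleton
    constructor
    refine ⟨fun a b _ => Subsingleton.elim a b, fun φ => ⟨0, ?_⟩⟩
    ext ψ
    have : ψ = 0 := by
      ext m
      rw [Subsingleton.elim m 0, map_zero, map_zero]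
    rw [this, map_zero, map_zero]
  obtain ⟨x₀, hx₀⟩ := hVU
  have hne : Nonempty V := ⟨⟨x₀, hx₀.1⟩⟩
  have hNoeth : IsNoetherianRing Γ(X, V) := IsLocallyNoetherian.component_noetherian ⟨V, hV⟩
  have hdom : IsDomain Γ(X, V) := inferInstance
  have hfin := finite_sections hF hV
  have hq : SheafOfModules.IsQuasicoherent (R := X.ringCatSheaf) F := hF.1
  have hloc : Loc F V := loc_of_isQuasicoherent F hV
  -- injectivity
  have hinj : ∀ m : Γ(F, V), Module.Dual.eval Γ(X, V) Γ(F, V) m = 0 → m = 0 := by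
    intro m hm
    apply (injective_iff_map_eq_zero _).mp hext.1
    apply eq_zero_of_germ
    intro x hx
    rw [germ_res]
    have h1 := hU x hx.2
    refine stalk_elim F hF.1 hV x hx.1 ?_
    intro _ _ _ _ l hl _ _
    obtain ⟨s, hs, hsm⟩ := exists_smul_eq_zero_of_eval_eq_zero
      (hV.primeIdealOf ⟨x, hx.1⟩).asIdeal.primeCompl (X.presheaf.stalk x) l m hm
    rw [← hl, IsLocalizedModule.eq_zero_iff (hV.primeIdealOf ⟨x, hx.1⟩).asIdeal.primeCompl l]
    exact ⟨⟨s, hs⟩, hsm⟩
  have hinj' : Function.Injective (Module.Dual.eval Γ(X, V) Γ(F, V)) := by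
    rw [injective_iff_map_eq_zero]
    exact hinj
  constructor
  refine ⟨hinj', fun φ => ?_⟩
  -- local solutions
  have key : ∀ x : {x : X // x ∈ V ⊓ U}, ∃ (s : Γ(X, V)) (m : Γ(F, V)), x.1 ∈ X.basicOpen s ∧
      X.basicOpen s ≤ U ∧ s • φ = Module.Dual.eval Γ(X, V) Γ(F, V) m := by
    rintro ⟨x, hx⟩
    have h1 := hU x hx.2
    obtain ⟨k, hk, hxk⟩ := hV.exists_basicOpen_le (V := V ⊓ U) ⟨x, hx⟩ hx.1
    have h2 : ∃ s ∈ (hV.primeIdealOf ⟨x, hx.1⟩).asIdeal.primeCompl, ∃ m : Γ(F, V),
        s • φ = Module.Dual.eval Γ(X, V) Γ(F, V) m := by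
      refine stalk_elim F hF.1 hV x hx.1 ?_
      intro _ _ _ _ l _ _ _
      exact exists_smul_eq_eval (hV.primeIdealOf ⟨x, hx.1⟩).asIdeal.primeCompl
        (X.presheaf.stalk x) l φ
    obtain ⟨s, hs, m, hsm⟩ := h2
    have hxs : x ∈ X.basicOpen s :=
      (Groth.Agent.Fdesc.QCohStalk.mem_basicOpen_iff hV x hx.1 s).mpr hs
    refine ⟨k * s, k • m, ?_, ?_, ?_⟩
    · rw [Scheme.basicOpen_mul]
      exact ⟨hxk, hxs⟩
    · rw [Scheme.basicOpen_mul]
      exact inf_le_left.trans (hk.trans inf_le_right)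
    · rw [mul_smul, hsm, map_smul]
  choose s m hxs hsU hsm using key
  -- the local sections
  have hunit : ∀ x, IsUnit (resR (X.basicOpen_le (s x)) (s x)) := fun x =>
    isUnit_resR_basicOpen (s x)
  have ht : ∀ x, ∃ t : Γ(F, X.basicOpen (s x)), resR (X.basicOpen_le (s x)) (s x) • t =
      res F (X.basicOpen_le (s x)) (m x) := by
    intro x
    obtain ⟨u, hu⟩ := hunit x
    refine ⟨(↑u⁻¹ : Γ(X, X.basicOpen (s x))) • res F (X.basicOpen_le (s x)) (m x), ?_⟩
    rw [← hu, smul_smul, Units.mul_inv, one_smul]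
  choose t ht using ht
  have hcross : ∀ x y, s y • m x = s x • m y := by
    intro x y
    apply hinj'
    rw [map_smul, map_smul, ← hsm, ← hsm, smul_comm]
  obtain ⟨t₀, ht₀⟩ := exists_glue F (U := V ⊓ U) (fun x => X.basicOpen (s x))
    (fun x => le_inf (X.basicOpen_le _) (hsU x)) (by
      intro x hx
      exact Opens.mem_iSup.mpr ⟨⟨x, hx⟩, hxs ⟨x, hx⟩⟩) t (by
      intro x y
      have hux : IsUnit (resR ((inf_le_left : X.basicOpen (s x) ⊓ X.basicOpen (s y) ≤ _).trans
          (X.basicOpen_le (s x))) (s x)) := isUnit_resR_of_le _ _ inf_le_left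
      have huy : IsUnit (resR ((inf_le_left : X.basicOpen (s x) ⊓ X.basicOpen (s y) ≤ _).trans
          (X.basicOpen_le (s x))) (s y)) := isUnit_resR_of_le _ _ inf_le_right
      rw [← sub_eq_zero]
      apply eq_zero_of_isUnit_smul (hux.mul huy)
      rw [smul_sub, sub_eq_zero]
      have h1 := congr(res F (inf_le_left : X.basicOpen (s x) ⊓ X.basicOpen (s y) ≤ _) $(ht x))
      have h2 := congr(res F (inf_le_right : X.basicOpen (s x) ⊓ X.basicOpen (s y) ≤ _) $(ht y))
      rw [res_smul, resR_resR, res_res] at h1 h2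
      have h3 := congr(res F ((inf_le_left : X.basicOpen (s x) ⊓ X.basicOpen (s y) ≤ _).trans
          (X.basicOpen_le (s x))) $(hcross x y))
      rw [res_smul, res_smul] at h3
      rw [mul_comm, mul_smul, h1, h3, mul_comm, mul_smul, h2])
  obtain ⟨m₀, hm₀⟩ := hext.2 t₀
  refine ⟨m₀, ?_⟩
  -- compare on one basic open
  let x : {x : X // x ∈ V ⊓ U} := ⟨x₀, hx₀⟩
  have h1 : res F (X.basicOpen_le (s x)) (s x • m₀ - m x) = 0 := by
    rw [map_sub, ← ht, res_smul, ← ht₀, ← hm₀, res_res, sub_self]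
  obtain ⟨n, hn⟩ := hloc.eq_zero _ _ h1
  have hs0 : s x ≠ 0 := by
    intro h0
    have := hxs x
    rw [h0, Scheme.basicOpen_zero] at this
    exact this
  have h2 : s x ^ (n + 1) • (Module.Dual.eval Γ(X, V) Γ(F, V) m₀ - φ) = 0 := by
    have h3 := congr(Module.Dual.eval Γ(X, V) Γ(F, V) $hn)
    rw [map_smul, map_sub, map_smul, ← hsm] at h3
    rw [pow_succ, mul_smul, smul_sub]
    exact h3.trans (map_zero _)
  have h4 : Module.IsTorsionFree Γ(X, V) (Module.Dual Γ(X, V) (Module.Dual Γ(X, V) Γ(F, V))) :=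
    dual_isTorsionFree _
  have h5 := h4.isSMulRegular (IsRegular.of_ne_zero (pow_ne_zero (n + 1) hs0))
  rw [isSMulRegular_iff_right_eq_zero_of_smul] at h5
  exact sub_eq_zero.mp (h5 _ h2)

/-- A coherent module on an integral locally Noetherian scheme which is reflexive at the points of
`U` and has the extension property for `U` is reflexive. -/
theorem isReflexive_stalk [IsIntegral X] [IsLocallyNoetherian X] {F : X.Modules}
    (hF : Coh.IsCoh F) (U : X.Opens)
    (hU : ∀ x ∈ U, Module.IsReflexive (X.presheaf.stalk x) (F.presheaf.stalk x))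
    (hext : ∀ V : X.Opens, Function.Bijective (res F (inf_le_left : V ⊓ U ≤ V))) (x : X) :
    Module.IsReflexive (X.presheaf.stalk x) (F.presheaf.stalk x) := by
  obtain ⟨V, hV, hxV⟩ := exists_affine x
  have h1 := isReflexive_sections hF U hU hV (hext V)
  have hNoeth : IsNoetherianRing Γ(X, V) := IsLocallyNoetherian.component_noetherian ⟨V, hV⟩
  have hfin := finite_sections hF hV
  refine stalk_elim F hF.1 hV x hxV ?_
  intro _ _ _ _ l _ _ _
  exact isReflexive_of_isLocalizedModule (hV.primeIdealOf ⟨x, hxV⟩).asIdeal.primeCompl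
    (X.presheaf.stalk x) l

end Groth.Agent.Divis.ReflexExtend
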