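import Groth.Agent.CurvesB.NormalSub
import Groth.Agent.Divis.ReflexExtend
import Groth.Agent.Ega1.QcqsPush
import Groth.Agent.Ega1.ExtendAff2

/-!
# Finiteness of direct images from opens with complement of depth at least two
-/

set_option autoImplicit false
universe u
open CategoryTheory CategoryTheory.Limits AlgebraicGeometry TopologicalSpace Opposite

namespace Groth.Agent.Divis.FinitePush

open Groth.Agent.CohqB.QC2 Groth.Agent.Divis.DepthTwo Groth.Agent.Divis.ExtendTwo
open Groth.Agent.Divis.StalkMod Groth.Agent.Divis.ReflexAlg Groth.Agent.Divis.ExtendStalk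
open Groth.Agent.Divis.ReflexSheaf Groth.Agent.Divis.ReflexExtend

section algebra

variable {R : Type*} [CommRing R]

/-- A torsion free module over a Noetherian domain which is generated up to powers of `f` and of `g`
by a finite submodule is finite, if `f, g` is a regular pair. -/
theorem finite_of_regPair [IsNoetherianRing R] [IsDomain R] {N : Type*} [AddCommGroup N]
    [Module R N] (hN : ∀ s : R, s ≠ 0 → ∀ m : N, s • m = 0 → m = 0) {f g : R}
    (hfg : RegPair f g R) (P : Submodule R N) (hP : P.FG) (hf : ∀ n : N, ∃ k : ℕ, f ^ k • n ∈ P)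
    (hg : ∀ n : N, ∃ k : ℕ, g ^ k • n ∈ P) : Module.Finite R N := by
  have hPfin : Module.Finite R P := Module.Finite.iff_fg.mpr hP
  obtain ⟨r, e, he⟩ := Groth.Agent.CurvesB.NormalSub.exists_injective_pi R P (fun s hs m hm => by
    ext
    apply hN s hs
    have := congr_arg Subtype.val hm
    simpa using this)
  have hf0 : f ≠ 0 := by
    rintro rfl
    exact one_ne_zero (hfg.inj 1 (zero_smul R 1))
  have hfgr : RegPair f g (Fin r → R) := hfg.pi
  let Q : Submodule R (N × (Fin r → R)) :=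
    { carrier := {q | ∃ (k : ℕ) (h : f ^ k • q.1 ∈ P), e ⟨f ^ k • q.1, h⟩ = f ^ k • q.2}
      add_mem' := by
        rintro ⟨n, v⟩ ⟨n', v'⟩ ⟨k, h, hk⟩ ⟨k', h', hk'⟩
        simp only at h h' hk hk'
        have h1 : f ^ (k + k') • (n + n') ∈ P := by
          rw [smul_add]
          refine add_mem ?_ ?_
          · rw [add_comm, pow_add, mul_smul]; exact P.smul_mem _ h
          · rw [pow_add, mul_smul]; exact P.smul_mem _ h'
        refine ⟨k + k', h1, ?_⟩
        have h2 : (⟨f ^ (k + k') • (n + n'), h1⟩ : P) = f ^ k' • ⟨f ^ k • n, h⟩ +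
            f ^ k • ⟨f ^ k' • n', h'⟩ := by
          ext
          simp only [Submodule.coe_add, Submodule.coe_smul, smul_add, smul_smul, ← pow_add]
          rw [add_comm k' k]
        change e ⟨f ^ (k + k') • (n + n'), h1⟩ = f ^ (k + k') • (v + v')
        rw [h2, map_add, map_smul, map_smul, hk, hk', smul_add, smul_smul, smul_smul, ← pow_add,
          ← pow_add, add_comm k' k]
      zero_mem' := by
        have h0 : f ^ 0 • (0 : N) ∈ P := by rw [smul_zero]; exact P.zero_mem
        refine ⟨0, h0, ?_⟩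
        have : (⟨f ^ 0 • (0 : N), h0⟩ : P) = 0 := by ext; simp
        change e ⟨f ^ 0 • (0 : N), h0⟩ = f ^ 0 • (0 : Fin r → R)
        rw [this, map_zero, smul_zero]
      smul_mem' := by
        rintro c ⟨n, v⟩ ⟨k, h, hk⟩
        simp only at h hk
        have h1 : f ^ k • (c • n) ∈ P := by
          rw [smul_comm]; exact P.smul_mem _ h
        refine ⟨k, h1, ?_⟩
        have h2 : (⟨f ^ k • (c • n), h1⟩ : P) = c • ⟨f ^ k • n, h⟩ := by
          ext
          simp only [Submodule.coe_smul]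
          rw [smul_comm]
        change e ⟨f ^ k • (c • n), h1⟩ = f ^ k • (c • v)
        rw [h2, map_smul, hk, smul_comm] }
  have hQ : ∀ q ∈ Q, ∃ (k : ℕ) (h : f ^ k • q.1 ∈ P), e ⟨f ^ k • q.1, h⟩ = f ^ k • q.2 :=
    fun q hq => hq
  let p1 : Q →ₗ[R] N := (LinearMap.fst R N (Fin r → R)).comp Q.subtype
  let p2 : Q →ₗ[R] (Fin r → R) := (LinearMap.snd R N (Fin r → R)).comp Q.subtype
  have hp2 : Function.Injective p2 := by
    rw [injective_iff_map_eq_zero]
    rintro ⟨⟨n, v⟩, hq⟩ h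
    have hv : v = 0 := h
    subst hv
    obtain ⟨k, h1, h2⟩ := hQ _ hq
    simp only at h1 h2
    rw [smul_zero] at h2
    have h3 := (injective_iff_map_eq_zero e).mp he _ h2
    have h4 : f ^ k • n = 0 := congr_arg Subtype.val h3
    have h5 : n = 0 := hN _ (pow_ne_zero k hf0) n h4
    subst h5
    rfl
  have hp1 : Function.Surjective p1 := by
    intro n
    obtain ⟨k, hk⟩ := hf n
    obtain ⟨l, hl⟩ := hg n
    have h1 : g ^ l • e ⟨f ^ k • n, hk⟩ = f ^ k • e ⟨g ^ l • n, hl⟩ := by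
      rw [← map_smul, ← map_smul]
      congr 1
      ext
      simp only [Submodule.coe_smul]
      rw [smul_comm]
    obtain ⟨v, hv⟩ := (hfgr.pow k l).div _ _ h1
    exact ⟨⟨(n, v), k, hk, hv⟩, rfl⟩
  have hQN : IsNoetherian R Q := isNoetherian_of_injective p2 hp2
  exact Module.Finite.of_surjective p1 hp1

end algebra

variable {X : Scheme.{u}}

/-- Functions on `D(f)` are fractions. -/
theorem exists_pow_mul_eq {V : X.Opens} (hV : IsAffineOpen V) (f : Γ(X, V))
    (c : Γ(X, X.basicOpen f)) : ∃ (b : ℕ) (r : Γ(X, V)),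
      resR (X.basicOpen_le f) f ^ b * c = resR (X.basicOpen_le f) r := by
  have h := hV.isLocalization_basicOpen f
  obtain ⟨⟨r, ⟨_, b, rfl⟩⟩, hr⟩ := IsLocalization.surj (.powers f) c
  refine ⟨b, r, ?_⟩
  rw [mul_comm, ← map_pow]
  exact hr

/-- If the sections over `D(f)` are finitely generated, then the sections over `V` are finitely
generated up to powers of `f`. -/
theorem exists_fg_of_finite (F : X.Modules) {V : X.Opens} (hV : IsAffineOpen V) (hF : Loc F V)
    (f : Γ(X, V)) [hfin : Module.Finite Γ(X, X.basicOpen f) Γ(F, X.basicOpen f)] :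
    ∃ P : Submodule Γ(X, V) Γ(F, V), P.FG ∧ ∀ n : Γ(F, V), ∃ k : ℕ, f ^ k • n ∈ P := by
  obtain ⟨T, hT⟩ := hfin
  choose a n hn using fun t : Γ(F, X.basicOpen f) => hF.exists_lift f t
  let P : Submodule Γ(X, V) Γ(F, V) := Submodule.span _ (n '' (T : Set Γ(F, X.basicOpen f)))
  have hP : P.FG := Submodule.fg_span (T.finite_toSet.image n)
  have key : ∀ y : Γ(F, X.basicOpen f), ∃ k : ℕ, ∃ p ∈ P,
      resR (X.basicOpen_le f) f ^ k • y = res F (X.basicOpen_le f) p := by
    intro y
    have hy : y ∈ Submodule.span Γ(X, X.basicOpen f) (T : Set Γ(F, X.basicOpen f)) := by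
      rw [hT]; trivial
    induction hy using Submodule.span_induction with
    | mem t ht => exact ⟨a t, n t, Submodule.subset_span ⟨t, ht, rfl⟩, (hn t).symm⟩
    | zero => exact ⟨0, 0, zero_mem _, by rw [smul_zero, map_zero]⟩
    | add y z _ _ hy hz =>
      obtain ⟨k, p, hp, hk⟩ := hy
      obtain ⟨l, q, hq, hl⟩ := hz
      refine ⟨k + l, f ^ l • p + f ^ k • q, add_mem (P.smul_mem _ hp) (P.smul_mem _ hq), ?_⟩
      rw [smul_add, map_add, res_smul, res_smul, ← hk, ← hl, map_pow, map_pow, smul_smul, smul_smul,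
        ← pow_add, ← pow_add, add_comm l k]
    | smul c y _ hy =>
      obtain ⟨k, p, hp, hk⟩ := hy
      obtain ⟨b, r, hr⟩ := exists_pow_mul_eq hV f c
      refine ⟨b + k, r • p, P.smul_mem _ hp, ?_⟩
      rw [res_smul, ← hk, ← hr, pow_add, smul_smul, smul_smul]
      congr 1
      ring
  refine ⟨P, hP, fun m => ?_⟩
  obtain ⟨k, p, hp, hk⟩ := key (res F (X.basicOpen_le f) m)
  have h1 : res F (X.basicOpen_le f) (f ^ k • m - p) = 0 := by
    rw [map_sub, res_smul, map_pow, hk, sub_self]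
  obtain ⟨l, hl⟩ := hF.eq_zero f _ h1
  refine ⟨l + k, ?_⟩
  rw [smul_sub, sub_eq_zero, smul_smul, ← pow_add] at hl
  rw [hl]
  exact P.smul_mem _ hp

/-- A regular pair on functions over an affine open. -/
theorem exists_regPair_functions [IsLocallyNoetherian X] (U : X.Opens) {W : X.Opens}
    (hW : IsAffineOpen W)
    (h : ∀ x ∈ W, x ∉ U → ∃ a ∈ IsLocalRing.maximalIdeal (X.presheaf.stalk x),
      ∃ b ∈ IsLocalRing.maximalIdeal (X.presheaf.stalk x), RegPair a b (X.presheaf.stalk x)) :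
    ∃ f g : Γ(X, W), X.basicOpen f ≤ U ∧ X.basicOpen g ≤ U ∧ RegPair f g Γ(X, W) := by
  have hNoeth : IsNoetherianRing Γ(X, W) := IsLocallyNoetherian.component_noetherian ⟨W, hW⟩
  let Z : Set (PrimeSpectrum Γ(X, W)) := {p | hW.fromSpec p ∉ U}
  have hZ : IsClosed Z := by
    have : Z = ((hW.fromSpec ⁻¹ᵁ U : (Spec Γ(X, W)).Opens) : Set (Spec Γ(X, W)))ᶜ := rfl
    rw [this]
    exact (hW.fromSpec ⁻¹ᵁ U).isOpen.isClosed_compl
  let I : Ideal Γ(X, W) := PrimeSpectrum.vanishingIdeal Z
  have hI : ∀ f ∈ I, X.basicOpen f ≤ U := by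
    intro f hf x hx
    have hxW : x ∈ W := X.basicOpen_le f hx
    by_contra hxU
    have hpZ : hW.primeIdealOf ⟨x, hxW⟩ ∈ Z := by
      change hW.fromSpec _ ∉ U
      rw [hW.fromSpec_primeIdealOf]
      exact hxU
    have h1 := (PrimeSpectrum.mem_vanishingIdeal _ _).mp hf _ hpZ
    exact (Groth.Agent.Fdesc.QCohStalk.mem_basicOpen_iff hW x hxW f).mp hx h1
  obtain ⟨f, hf, g, hg, hfg⟩ := exists_regPair (M := Γ(X, W)) I (by
    intro p hp hle
    let P : PrimeSpectrum Γ(X, W) := ⟨p, hp⟩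
    have hPZ : P ∈ Z := by
      have : P ∈ PrimeSpectrum.zeroLocus (I : Set Γ(X, W)) := hle
      rwa [PrimeSpectrum.zeroLocus_vanishingIdeal_eq_closure, hZ.closure_eq] at this
    let x := hW.fromSpec P
    have hxW : x ∈ W := by
      have : x ∈ hW.fromSpec.opensRange := ⟨P, rfl⟩
      rwa [hW.opensRange_fromSpec] at this
    have hxP : hW.primeIdealOf ⟨x, hxW⟩ = P := by
      apply hW.fromSpec.isOpenEmbedding.injective
      rw [hW.fromSpec_primeIdealOf]
    have hx := h x hxW hPZ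
    have hgoal : ∃ a ∈ (hW.primeIdealOf ⟨x, hxW⟩).asIdeal, ∃ b ∈ (hW.primeIdealOf ⟨x, hxW⟩).asIdeal,
        RegPair a b (LocalizedModule (hW.primeIdealOf ⟨x, hxW⟩).asIdeal.primeCompl Γ(X, W)) := by
      let := stalkAlg x hxW
      have := hW.isLocalization_stalk ⟨x, hxW⟩
      exact exists_regPair_localizedModule (A := X.presheaf.stalk x) _
        (Algebra.linearMap Γ(X, W) (X.presheaf.stalk x)) hx
    rw [hxP] at hgoal
    exact hgoal)
  exact ⟨f, g, hI f hf, hI g hg, hfg⟩

/-- Finiteness of the sections of the direct image. -/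
theorem finite_sections_push [IsIntegral X] [IsLocallyNoetherian X] (U : X.Opens)
    (hU : ∀ x : X, x ∉ U → ∃ a ∈ IsLocalRing.maximalIdeal (X.presheaf.stalk x),
      ∃ b ∈ IsLocalRing.maximalIdeal (X.presheaf.stalk x), RegPair a b (X.presheaf.stalk x))
    (F : X.Modules) (hq : Coh.IsQCoh F)
    (hfin : ∀ W : X.Opens, IsAffineOpen W → W ≤ U → Module.Finite Γ(X, W) Γ(F, W))
    {V : X.Opens} (hV : IsAffineOpen V)
    (htf : ∀ s : Γ(X, V), s ≠ 0 → ∀ m : Γ(F, V), s • m = 0 → m = 0) :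
    Module.Finite Γ(X, V) Γ(F, V) := by
  obtain ⟨f, g, hf, hg, hfg⟩ := exists_regPair_functions U hV (fun x _ hx => hU x hx)
  have hNoeth : IsNoetherianRing Γ(X, V) := IsLocallyNoetherian.component_noetherian ⟨V, hV⟩
  have hloc : Loc F V := by
    have hq' : SheafOfModules.IsQuasicoherent (R := X.ringCatSheaf) F := hq
    exact loc_of_isQuasicoherent F hV
  by_cases hne : Nonempty V
  swap
  · have hsub : Subsingleton Γ(X, V) := by
      refine ⟨fun a b => ?_⟩
      apply TopCat.Presheaf.section_ext X.sheaf V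
      intro x hx
      exact absurd ⟨⟨x, hx⟩⟩ hne
    have : Subsingleton Γ(F, V) := Module.subsingleton Γ(X, V) _
    infer_instance
  have hdom : IsDomain Γ(X, V) := inferInstance
  have h1 := hfin _ (hV.basicOpen f) hf
  have h2 := hfin _ (hV.basicOpen g) hg
  obtain ⟨P, hP, hP'⟩ := exists_fg_of_finite F hV hloc f
  obtain ⟨Q, hQ, hQ'⟩ := exists_fg_of_finite F hV hloc g
  refine finite_of_regPair htf hfg (P ⊔ Q) (hP.sup hQ) (fun n => ?_) (fun n => ?_)
  · obtain ⟨k, hk⟩ := hP' n
    exact ⟨k, Submodule.mem_sup_left hk⟩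
  · obtain ⟨k, hk⟩ := hQ' n
    exact ⟨k, Submodule.mem_sup_right hk⟩

end Groth.Agent.Divis.FinitePush
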