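import Mathlib.RingTheory.Flat.Tensor
import Mathlib.RingTheory.Nakayama
import Mathlib.RingTheory.LocalRing.MaximalIdeal.Basic
import Mathlib.Tactic.Algebraize
import Mathlib.RingTheory.RingHom.Flat
import Mathlib.RingTheory.Noetherian.Basic

/-!
# Flatness from flatness modulo a nonzerodivisor

* `exists_smul_eq`: if `h` is regular on the `A`-algebra `B` and `B / h B` is flat over `A`, then for every injective
  `A`-linear `I → P` the kernel `K` of `B ⊗ I → B ⊗ P` satisfies `K = h K`, provided `h` is regular on `B ⊗ P`.
* `flat_of_flat_quotient`: if moreover `B` is Noetherian local and `h` is in the maximal ideal, then `B` is flat.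
-/

set_option autoImplicit false

open TensorProduct

namespace Groth.Agent.Divis.FlatNakayama

variable {A B C : Type*} [CommRing A] [CommRing B] [Algebra A B] [CommRing C] [Algebra A C] [Algebra B C]
  [IsScalarTower A B C]

/-- If `C = B / h B` is flat over `A`, `t ∈ B ⊗ I` goes to zero in `B ⊗ A`, then `t = h • t'` with
`t'` again in the kernel. -/
theorem exists_smul_eq (h : B) (hreg : h ∈ nonZeroDivisors B)
    (hsurj : Function.Surjective (algebraMap B C)) (hker : RingHom.ker (algebraMap B C) = Ideal.span {h})
    [Module.Flat A C] (I : Ideal A) (t : B ⊗[A] I)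
    (ht : (I.subtype.baseChange B) t = 0) :
    ∃ t' : B ⊗[A] I, (I.subtype.baseChange B) t' = 0 ∧ h • t' = t := by
  let π : B →ₗ[A] C := (IsScalarTower.toAlgHom A B C).toLinearMap
  let μ : B →ₗ[A] B := LinearMap.mulLeft A h
  have hex : Function.Exact μ π := by
    intro b
    change algebraMap B C b = 0 ↔ b ∈ Set.range fun x ↦ h * x
    rw [← RingHom.mem_ker, hker, Ideal.mem_span_singleton]
    exact ⟨fun ⟨c, hc⟩ ↦ ⟨c, hc.symm⟩, fun ⟨c, hc⟩ ↦ ⟨c, hc.symm⟩⟩
  have hex2 := rTensor_exact I hex hsurj
  have h1 : LinearMap.rTensor I π t = 0 := by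
    have hinj : Function.Injective (LinearMap.lTensor C I.subtype) :=
      Module.Flat.lTensor_preserves_injective_linearMap I.subtype I.injective_subtype
    apply hinj
    rw [map_zero, ← LinearMap.comp_apply, LinearMap.lTensor_comp_rTensor, ← LinearMap.rTensor_comp_lTensor,
      LinearMap.comp_apply]
    have : LinearMap.lTensor B I.subtype t = 0 := ht
    rw [this, map_zero]
  obtain ⟨t', ht'⟩ := (hex2 t).mp h1
  have hμ : ∀ s : B ⊗[A] I, LinearMap.rTensor I μ s = h • s := by
    intro s
    induction s with
    | zero => simp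
    | tmul b i => simp [μ, TensorProduct.smul_tmul']
    | add x y hx hy => rw [map_add, hx, hy, smul_add]
  rw [hμ] at ht'
  refine ⟨t', ?_, ht'⟩
  have h2 : h • (I.subtype.baseChange B) t' = 0 := by
    rw [← map_smul, ht', ht]
  have h3 : h * (TensorProduct.rid A B ((I.subtype.baseChange B) t')) = 0 := by
    have : ∀ s : B ⊗[A] A, TensorProduct.rid A B (h • s) = h * TensorProduct.rid A B s := by
      intro s
      induction s with
      | zero => simp
      | tmul b i => simp [TensorProduct.smul_tmul', Algebra.mul_smul_comm]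
      | add x y hx hy => rw [smul_add, map_add, hx, hy, map_add, mul_add]
    rw [← this, h2, map_zero]
  have h4 := (mul_left_mem_nonZeroDivisors_eq_zero_iff hreg).mp h3
  exact (TensorProduct.rid A B).map_eq_zero_iff.mp h4

theorem flat_of_flat_quotient [IsLocalRing B] [IsNoetherianRing B] (h : B) (hreg : h ∈ nonZeroDivisors B)
    (hm : h ∈ IsLocalRing.maximalIdeal B)
    (hsurj : Function.Surjective (algebraMap B C)) (hker : RingHom.ker (algebraMap B C) = Ideal.span {h})
    [Module.Flat A C] : Module.Flat A B := by
  rw [Module.Flat.iff_lTensor_injective]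
  intro I hI
  have : Module.Finite A I := Module.Finite.iff_fg.mpr hI
  set φ := I.subtype.baseChange B with hφ
  have hK : LinearMap.ker φ = ⊥ := by
    apply Submodule.eq_bot_of_le_smul_of_le_jacobson_bot (Ideal.span {h}) _ (IsNoetherian.noetherian _)
    · intro t ht
      obtain ⟨t', ht', rfl⟩ := exists_smul_eq (C := C) h hreg hsurj hker I t ht
      exact Submodule.smul_mem_smul (Ideal.mem_span_singleton_self h) ht'
    · rw [IsLocalRing.jacobson_eq_maximalIdeal _ bot_ne_top]
      rwa [Ideal.span_singleton_le_iff_mem]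
  have hinj : Function.Injective φ := LinearMap.ker_eq_bot.mp hK
  exact hinj

theorem ringHom_flat {A B C : Type*} [CommRing A] [CommRing B] [CommRing C] [IsLocalRing B] [IsNoetherianRing B]
    (φ : A →+* B) (ψ : B →+* C) (h : B) (hreg : h ∈ nonZeroDivisors B)
    (hm : h ∈ IsLocalRing.maximalIdeal B)
    (hsurj : Function.Surjective ψ) (hker : RingHom.ker ψ = Ideal.span {h}) (hf : (ψ.comp φ).Flat) : φ.Flat := by
  algebraize [φ, ψ, ψ.comp φ]
  have : Module.Flat A C := hf
  exact flat_of_flat_quotient (C := C) h hreg hm hsurj hker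

end Groth.Agent.Divis.FlatNakayama
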