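import Groth.Agent.Divis.StalkAssoc
import Groth.Agent.Divis.IdealComap
import Mathlib.AlgebraicGeometry.Noetherian

/-!
# Scheme-theoretic closure of a closed subscheme of an open subscheme

* `comap_map`: `(D.map f).comap f = D` for a quasi-compact open immersion `f`.
* `mem_stalkIdeal_ker_of_forall`: if `f : Z ⟶ X` is quasi-compact and factors set-theoretically through the open `U`,
  `y ∉ U`, `X` locally Noetherian, then `m_y b ⊆ (ker f)_y` implies `b ∈ (ker f)_y`.
* `exists_generator_of_comap`: a generator of the stalk ideal of `I.comap f` (`f` an open immersion) gives one for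
  the stalk ideal of `I`.
-/

set_option autoImplicit false
universe u

open CategoryTheory CategoryTheory.Limits AlgebraicGeometry TopologicalSpace

namespace Groth.Agent.Divis.MapOpen

open Groth.Agent.Divis.CartierBasic Groth.Agent.Divis.CartierStalk Groth.Agent.CycB.LocQuot

variable {X Z : Scheme.{u}}

theorem comap_map (D : Z.IdealSheafData) (f : Z ⟶ X) [IsOpenImmersion f] [QuasiCompact f] :
    (D.map f).comap f = D := by
  apply le_antisymm (Scheme.IdealSheafData.comap_map_le _ _)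
  intro V
  have H : IsAffineOpen (f ⁻¹ᵁ (f ''ᵁ V.1)) := by
    rw [f.preimage_image_eq]; exact V.2
  have e : V.1 ≤ f ⁻¹ᵁ (f ''ᵁ V.1) := (f.preimage_image_eq V.1).ge
  rw [Groth.Agent.Divis.IdealComap.ideal_comap (D.map f) f
    ⟨f ''ᵁ V.1, V.2.image_of_isOpenImmersion f⟩ V e,
    Scheme.IdealSheafData.ideal_map D f ⟨f ''ᵁ V.1, V.2.image_of_isOpenImmersion f⟩ H]
  intro s hs
  have h1 : s = (f.appLE (f ''ᵁ V.1) V.1 e).hom ((f.appIso V.1).inv.hom s) := by
    rw [← Scheme.Hom.appIso_hom', ← RingHom.comp_apply, ← CommRingCat.hom_comp, Iso.inv_hom_id]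
    rfl
  rw [h1]
  apply Ideal.mem_map_of_mem
  rw [Ideal.mem_comap]
  have h2 : (f.app (f ''ᵁ V.1)).hom ((f.appIso V.1).inv.hom s) =
      (Z.presheaf.map (eqToHom (f.preimage_image_eq V.1)).op).hom s := by
    rw [← RingHom.comp_apply, ← CommRingCat.hom_comp, Scheme.Hom.appIso_inv_app]
  change (f.app (f ''ᵁ V.1)).hom ((f.appIso V.1).inv.hom s) ∈ D.ideal ⟨f ⁻¹ᵁ (f ''ᵁ V.1), H⟩
  rw [h2, ← D.map_ideal' (U := ⟨f ⁻¹ᵁ (f ''ᵁ V.1), H⟩) (V := V) (eqToHom (f.preimage_image_eq V.1)).op]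
  exact Ideal.mem_map_of_mem _ hs

theorem exists_uniform {A : Type*} [CommRing A] (P : Ideal A) [P.IsPrime] (J K : Ideal A) (hK : K.FG)
    (h : ∀ π ∈ K, ∃ u, u ∉ P ∧ u * π ∈ J) : ∃ u, u ∉ P ∧ ∀ π ∈ K, u * π ∈ J := by
  induction K, hK using Submodule.fg_induction with
  | singleton x =>
    obtain ⟨u, hu, hux⟩ := h x (Ideal.mem_span_singleton_self x)
    refine ⟨u, hu, fun π hπ => ?_⟩
    obtain ⟨c, rfl⟩ := Ideal.mem_span_singleton'.1 hπ
    rw [mul_left_comm]
    exact J.mul_mem_left _ hux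
  | sup M₁ M₂ h₁ h₂ ih₁ ih₂ =>
    obtain ⟨u₁, hu₁, h₁⟩ := ih₁ (fun π hπ => h π (Ideal.mem_sup_left hπ))
    obtain ⟨u₂, hu₂, h₂⟩ := ih₂ (fun π hπ => h π (Ideal.mem_sup_right hπ))
    refine ⟨u₁ * u₂, fun hmem => ?_, fun π hπ => ?_⟩
    · rcases Ideal.IsPrime.mem_or_mem ‹_› hmem with h | h
      · exact hu₁ h
      · exact hu₂ h
    · obtain ⟨a, ha, b, hb, rfl⟩ := Submodule.mem_sup.1 hπ
      rw [mul_add]
      refine J.add_mem ?_ ?_
      · rw [mul_comm u₁, mul_assoc]; exact J.mul_mem_left _ (h₁ a ha)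
      · rw [mul_assoc]; exact J.mul_mem_left _ (h₂ b hb)

/-- Primes of points of an affine open and specialization. -/
theorem primeIdealOf_le_iff {V : X.Opens} (hV : IsAffineOpen V) (x y : V) :
    (hV.primeIdealOf x).asIdeal ≤ (hV.primeIdealOf y).asIdeal ↔ x.1 ⤳ y.1 := by
  rw [PrimeSpectrum.asIdeal_le_asIdeal, PrimeSpectrum.le_iff_specializes,
    ← hV.fromSpec_primeIdealOf x, ← hV.fromSpec_primeIdealOf y]
  exact (hV.fromSpec.isOpenEmbedding.isInducing.specializes_iff).symm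

theorem mem_primeIdealOf_iff {V : X.Opens} (hV : IsAffineOpen V) (x : V) (a : Γ(X, V)) :
    a ∈ (hV.primeIdealOf x).asIdeal ↔ ¬ IsUnit (X.presheaf.germ V x.1 x.2 a) := by
  let := X.presheaf.algebra_section_stalk x
  have := hV.isLocalization_stalk x
  have h1 := IsLocalization.AtPrime.isUnit_to_map_iff (X.presheaf.stalk x.1)
    (hV.primeIdealOf x).asIdeal a
  exact (not_iff_comm.1 h1.symm).symm

theorem mem_stalkIdeal_ker_of_forall [IsLocallyNoetherian X] (f : Z ⟶ X) [QuasiCompact f] (U : X.Opens)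
    (hU : ∀ z, f z ∈ U) (y : X) (hy : y ∉ U) (b : X.presheaf.stalk y)
    (hb : ∀ s ∈ IsLocalRing.maximalIdeal (X.presheaf.stalk y), s * b ∈ stalkIdeal f.ker y) :
    b ∈ stalkIdeal f.ker y := by
  obtain ⟨⟨V, hV⟩, hyV⟩ := exists_affine y
  replace hyV : y ∈ V := hyV
  replace hV : IsAffineOpen V := hV
  have hN : IsNoetherianRing Γ(X, V) := IsLocallyNoetherian.component_noetherian ⟨V, hV⟩
  let := X.presheaf.algebra_section_stalk (⟨y, hyV⟩ : V)
  have hloc : IsLocalization.AtPrime (X.presheaf.stalk y) (hV.primeIdealOf ⟨y, hyV⟩).asIdeal :=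
    hV.isLocalization_stalk ⟨y, hyV⟩
  let P := (hV.primeIdealOf ⟨y, hyV⟩).asIdeal
  rw [stalkIdeal_eq f.ker ⟨V, hV⟩ hyV] at hb ⊢
  let J := f.ker.ideal ⟨V, hV⟩
  obtain ⟨⟨β, t⟩, hβ⟩ := IsLocalization.surj P.primeCompl b
  have htu : IsUnit (algebraMap Γ(X, V) (X.presheaf.stalk y) t) := IsLocalization.map_units _ t
  obtain ⟨u, hu, hJ⟩ := exists_uniform P J (P * Ideal.span {β}) (IsNoetherian.noetherian _) (by
    intro π' hπ'
    obtain ⟨π, hπ, rfl⟩ := Ideal.mem_mul_span_singleton.1 hπ'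
    have h1 : algebraMap Γ(X, V) (X.presheaf.stalk y) π ∈
        IsLocalRing.maximalIdeal (X.presheaf.stalk y) :=
      (IsLocalRing.mem_maximalIdeal _).2 ((mem_primeIdealOf_iff hV ⟨y, hyV⟩ π).1 hπ)
    have h2 : algebraMap Γ(X, V) (X.presheaf.stalk y) (π * β) ∈
        Ideal.map (algebraMap Γ(X, V) (X.presheaf.stalk y)) J := by
      rw [map_mul]
      change _ * (algebraMap Γ(X, V) (X.presheaf.stalk y)) ((β, t) : _ × P.primeCompl).1 ∈ _
      rw [← hβ, ← mul_assoc]
      exact Ideal.mul_mem_right _ _ (hb _ h1)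
    rw [IsLocalization.algebraMap_mem_map_algebraMap_iff P.primeCompl] at h2
    obtain ⟨u, hu, h3⟩ := h2
    exact ⟨u, hu, h3⟩)
  have hγ : u * β ∈ J := by
    change u * β ∈ f.ker.ideal ⟨V, hV⟩
    rw [Scheme.Hom.ker_apply, RingHom.mem_ker]
    refine Z.IsSheaf.section_ext ?_
    intro z hz
    have hfz : f z ∈ V := hz
    have hns : ¬ (y ⤳ f z) := fun h => hy (h.mem_open U.2 (hU z))
    rw [← primeIdealOf_le_iff hV ⟨y, hyV⟩ ⟨f z, hfz⟩, SetLike.not_le_iff_exists] at hns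
    obtain ⟨π, hπ, hπz⟩ := hns
    rw [mem_primeIdealOf_iff, not_not] at hπz
    have h1 : (f.app V).hom (π * (u * β)) = 0 := by
      have h2 : π * (u * β) ∈ f.ker.ideal ⟨V, hV⟩ := by
        have := hJ (π * β) (Ideal.mul_mem_mul hπ (Ideal.mem_span_singleton_self β))
        rwa [mul_left_comm] at this
      rw [Scheme.Hom.ker_apply, RingHom.mem_ker] at h2
      exact h2
    have h3 : Z.presheaf.germ (f ⁻¹ᵁ V) z hz ((f.app V).hom (u * β)) = 0 := by
      have h4 := congrArg (Z.presheaf.germ (f ⁻¹ᵁ V) z hz) h1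
      rw [map_mul, map_mul, map_zero] at h4
      have h5 : IsUnit (Z.presheaf.germ (f ⁻¹ᵁ V) z hz ((f.app V).hom π)) := by
        have h6 := hπz.map (f.stalkMap z).hom
        have h7 := Scheme.Hom.germ_stalkMap_apply f V z hz π
        rw [← h7]
        exact h6
      exact h5.mul_right_eq_zero.1 h4
    obtain ⟨W, hzW, i, i', h8⟩ := Z.presheaf.germ_eq z hz hz _ 0 (by rw [h3, map_zero])
    exact ⟨W, leOfHom i, hzW, h8⟩
  have h9 : algebraMap Γ(X, V) (X.presheaf.stalk y) (u * β) ∈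
      Ideal.map (algebraMap Γ(X, V) (X.presheaf.stalk y)) J := Ideal.mem_map_of_mem _ hγ
  have huu : IsUnit (algebraMap Γ(X, V) (X.presheaf.stalk y) u) :=
    IsLocalization.map_units _ (⟨u, hu⟩ : P.primeCompl)
  rw [map_mul, Ideal.unit_mul_mem_iff_mem _ huu] at h9
  change (algebraMap Γ(X, V) (X.presheaf.stalk y)) ((β, t) : _ × P.primeCompl).1 ∈ _ at h9
  rw [← hβ, Ideal.mul_unit_mem_iff_mem _ htu] at h9
  exact h9

theorem exists_generator_of_comap (I : X.IdealSheafData) (f : Z ⟶ X) [IsOpenImmersion f] (z : Z)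
    (h : ∃ g ∈ nonZeroDivisors (Z.presheaf.stalk z), stalkIdeal (I.comap f) z = Ideal.span {g}) :
    ∃ g ∈ nonZeroDivisors (X.presheaf.stalk (f z)), stalkIdeal I (f z) = Ideal.span {g} := by
  obtain ⟨g, hg, h⟩ := h
  rw [stalkIdeal_comap] at h
  let e := (asIso (f.stalkMap z)).commRingCatIsoToRingEquiv
  have he : ∀ s, e s = (f.stalkMap z).hom s := fun s => rfl
  refine ⟨e.symm g, ?_, ?_⟩
  · rw [mem_nonZeroDivisors_iff_right] at hg ⊢
    intro s hs
    have h1 := congrArg e hs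
    rw [map_mul, RingEquiv.apply_symm_apply, map_zero] at h1
    have h2 := hg _ h1
    exact (map_eq_zero_iff e e.injective).1 h2
  · have hφ : Function.Bijective (f.stalkMap z).hom := e.bijective
    have h3 := congrArg (Ideal.comap (f.stalkMap z).hom) h
    rw [Ideal.comap_map_of_bijective (f.stalkMap z).hom hφ] at h3
    rw [h3]
    ext s
    rw [Ideal.mem_comap, Ideal.mem_span_singleton', Ideal.mem_span_singleton', ← he]
    constructor
    · rintro ⟨c, hc⟩
      refine ⟨e.symm c, ?_⟩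
      rw [← map_mul, hc]
      exact e.symm_apply_apply s
    · rintro ⟨c, rfl⟩
      refine ⟨e c, ?_⟩
      rw [map_mul, RingEquiv.apply_symm_apply]

end Groth.Agent.Divis.MapOpen
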