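import Groth.Agent.Ega1.QCohLoc
import Groth.Agent.Fdesc.QCohStalk
import Groth.Agent.Divis.DepthTwo
import Groth.Agent.Ega4C.DepthBasics
import Mathlib.RingTheory.Flat.EquationalCriterion
import Mathlib.AlgebraicGeometry.Morphisms.QuasiSeparated

/-!
# Depth of the stalks of a direct image (Stacks Tag 0EY0)

Elementary arguments with sections and germs: gluing of local quotients.
-/

set_option autoImplicit false
universe u
open CategoryTheory CategoryTheory.Limits AlgebraicGeometry TopologicalSpace Opposite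
open Groth.Agent.Ega1.QCohLoc
open scoped Topology

namespace Groth.Agent.Divis.PushDepth

section Algebra

/-- The equational criterion for one relation between two elements. -/
theorem exists_relation {A B : Type*} [CommRing A] [CommRing B] (φ : A →+* B) {M : Type*}
    [AddCommGroup M] [Module B M]
    (hflat : letI := Module.compHom M φ; Module.Flat A M) (a b : A) (m n : M)
    (h : φ a • m = φ b • n) :
    ∃ (k : ℕ) (c d : Fin k → A) (y : Fin k → M), m = ∑ j, φ (c j) • y j ∧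
      n = ∑ j, φ (d j) • y j ∧ ∀ j, a * c j = b * d j := by
  let := Module.compHom M φ
  have : Module.Flat A M := hflat
  obtain ⟨k, e, y, h1, h2⟩ := Module.Flat.isTrivialRelation_of_sum_smul_eq_zero (R := A) (M := M)
    (f := ![a, -b]) (x := ![m, n]) (by
      rw [Fin.sum_univ_two]
      change φ a • m + φ (-b) • n = 0
      rw [map_neg, neg_smul, h, add_neg_cancel])
  refine ⟨k, e 0, e 1, y, h1 0, h1 1, fun j => ?_⟩
  have := h2 j
  rw [Fin.sum_univ_two] at this
  simp only [Matrix.cons_val_zero, Matrix.cons_val_one] at this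
  linear_combination this

end Algebra

variable {X S : Scheme.{u}} (f : X ⟶ S) (F : X.Modules)

/-- The direct image. -/
noncomputable abbrev push : S.Modules := (Scheme.Modules.pushforward f).obj F

theorem germ_res {V W : X.Opens} (h : W ≤ V) (x : X) (hx : x ∈ W) (t : Γ(F, V)) :
    F.presheaf.germ W x hx (res F h t) = F.presheaf.germ V x (h hx) t :=
  Groth.Agent.Fdesc.QCohStalk.germ_map F h x hx t

theorem germ_resO {V W : X.Opens} (h : W ≤ V) (x : X) (hx : x ∈ W) (t : Γ(X, V)) :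
    X.presheaf.germ W x hx (resO h t) = X.presheaf.germ V x (h hx) t :=
  Groth.Agent.Fdesc.QCohStalk.ring_germ_map h x hx t

theorem germ_smul {V : X.Opens} (x : X) (hx : x ∈ V) (r : Γ(X, V)) (s : Γ(F, V)) :
    F.presheaf.germ V x hx (r • s) = X.presheaf.germ V x hx r • F.presheaf.germ V x hx s :=
  Groth.Agent.Fdesc.QCohStalk.germ_smul' F x hx r s

theorem ext_germ {V : X.Opens} (s t : Γ(F, V))
    (h : ∀ x (hx : x ∈ V), F.presheaf.germ V x hx s = F.presheaf.germ V x hx t) : s = t :=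
  TopCat.Presheaf.section_ext ⟨_, F.isSheaf⟩ V _ _ h

/-- The germ of a section `a` of `O_S` at a point `x` over it. -/
noncomputable def pb {U : S.Opens} (x : X) (hx : f x ∈ U) : Γ(S, U) →+* X.presheaf.stalk x :=
  (X.presheaf.germ (f ⁻¹ᵁ U) x hx).hom.comp (f.app U).hom

theorem pb_apply {U : S.Opens} (x : X) (hx : f x ∈ U) (a : Γ(S, U)) :
    pb f x hx a = X.presheaf.germ (f ⁻¹ᵁ U) x hx (f.app U a) := rfl

theorem pb_eq_stalkMap {U : S.Opens} (x : X) (hx : f x ∈ U) (a : Γ(S, U)) :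
    pb f x hx a = (f.stalkMap x) (S.presheaf.germ U (f x) hx a) :=
  (Scheme.Hom.germ_stalkMap_apply f U x hx a).symm

theorem isUnit_pb {U : S.Opens} (x : X) (hx : f x ∈ U) (a : Γ(S, U)) (ha : f x ∈ S.basicOpen a) :
    IsUnit (pb f x hx a) := by
  rw [pb_eq_stalkMap]
  exact ((S.mem_basicOpen a _ hx).mp ha).map _

theorem flat_stalk {U : S.Opens} (hU : IsAffineOpen U) (x : X) (hx : f x ∈ U)
    (hflat : FlatMod.IsFlatOverAt f F x) :
    letI := Module.compHom (F.presheaf.stalk x) (pb f x hx)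
    Module.Flat Γ(S, U) (F.presheaf.stalk x) := by
  let := Module.compHom (F.presheaf.stalk x) (pb f x hx)
  let alg : Algebra Γ(S, U) (S.presheaf.stalk (f x)) :=
    TopCat.Presheaf.algebra_section_stalk S.presheaf ⟨f x, hx⟩
  have hloc : IsLocalization.AtPrime (S.presheaf.stalk (f x))
      (hU.primeIdealOf ⟨f x, hx⟩).asIdeal := hU.isLocalization_stalk ⟨f x, hx⟩
  let m2 : Module (S.presheaf.stalk (f x)) (F.presheaf.stalk x) := FlatMod.moduleStalkOver f F x
  have h2 : Module.Flat (S.presheaf.stalk (f x)) (F.presheaf.stalk x) := hflat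
  have h1 : Module.Flat Γ(S, U) (S.presheaf.stalk (f x)) :=
    IsLocalization.flat _ (hU.primeIdealOf ⟨f x, hx⟩).asIdeal.primeCompl
  have htow : IsScalarTower Γ(S, U) (S.presheaf.stalk (f x)) (F.presheaf.stalk x) := by
    constructor
    intro r a m
    change (f.stalkMap x) (S.presheaf.germ U (f x) hx r * a) • m =
      pb f x hx r • ((f.stalkMap x) a • m)
    rw [map_mul, mul_smul, pb_eq_stalkMap]
  exact Module.Flat.trans Γ(S, U) (S.presheaf.stalk (f x)) (F.presheaf.stalk x)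

section Local

variable {U : S.Opens} (hU : IsAffineOpen U) (s : S) (hs : s ∈ U)

include hU in
theorem exists_mul_eq_zero (c : Γ(S, U)) (hc : S.presheaf.germ U s hs c = 0) :
    ∃ g : Γ(S, U), s ∈ S.basicOpen g ∧ g * c = 0 := by
  let alg : Algebra Γ(S, U) (S.presheaf.stalk s) :=
    TopCat.Presheaf.algebra_section_stalk S.presheaf ⟨s, hs⟩
  have hloc : IsLocalization.AtPrime (S.presheaf.stalk s)
      (hU.primeIdealOf ⟨s, hs⟩).asIdeal := hU.isLocalization_stalk ⟨s, hs⟩
  obtain ⟨g, hg⟩ := (IsLocalization.map_eq_zero_iff (hU.primeIdealOf ⟨s, hs⟩).asIdeal.primeCompl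
    (S.presheaf.stalk s) c).mp hc
  exact ⟨g.1, (Groth.Agent.Fdesc.QCohStalk.mem_basicOpen_iff hU s hs g.1).mpr g.2, hg⟩

include hU in
theorem exists_mul_eq_mul (a c : Γ(S, U)) (e : S.presheaf.stalk s)
    (hc : S.presheaf.germ U s hs c = S.presheaf.germ U s hs a * e) :
    ∃ g e' : Γ(S, U), s ∈ S.basicOpen g ∧ g * c = a * e' := by
  let alg : Algebra Γ(S, U) (S.presheaf.stalk s) :=
    TopCat.Presheaf.algebra_section_stalk S.presheaf ⟨s, hs⟩
  have hloc : IsLocalization.AtPrime (S.presheaf.stalk s)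
      (hU.primeIdealOf ⟨s, hs⟩).asIdeal := hU.isLocalization_stalk ⟨s, hs⟩
  obtain ⟨⟨e₁, v⟩, hv⟩ := IsLocalization.surj (hU.primeIdealOf ⟨s, hs⟩).asIdeal.primeCompl e
  change e * S.presheaf.germ U s hs v.1 = S.presheaf.germ U s hs e₁ at hv
  obtain ⟨g, hg, hg0⟩ := exists_mul_eq_zero hU s hs (v.1 * c - a * e₁) (by
    rw [map_sub, map_mul, map_mul, hc, ← hv]
    ring)
  refine ⟨g * v.1, g * e₁, ?_, by linear_combination hg0⟩
  rw [Scheme.basicOpen_mul]
  exact ⟨hg, (Groth.Agent.Fdesc.QCohStalk.mem_basicOpen_iff hU s hs v.1).mpr v.2⟩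

theorem mem_basicOpen_prod {ι : Type*} (t : Finset ι) (g : ι → Γ(S, U))
    (hs : s ∈ U) (hg : ∀ i ∈ t, s ∈ S.basicOpen (g i)) : s ∈ S.basicOpen (∏ i ∈ t, g i) := by
  rw [S.mem_basicOpen _ s hs, map_prod]
  exact Finset.prod_induction _ IsUnit (fun _ _ => IsUnit.mul) isUnit_one
    (fun i hi => (S.mem_basicOpen _ s hs).mp (hg i hi))

include hU in
/-- The pointwise form: if `a` is regular at `s` then an element of `F_x` killed by `a` is killed
by a function invertible at `s`. -/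
theorem exists_smul_eq_zero_of_flat (x : X) (hx : f x ∈ U) (hflat : FlatMod.IsFlatOverAt f F x)
    (a : Γ(S, U)) (ha : ∀ c : S.presheaf.stalk s, S.presheaf.germ U s hs a * c = 0 → c = 0)
    (m : F.presheaf.stalk x) (hm : pb f x hx a • m = 0) :
    ∃ g : Γ(S, U), s ∈ S.basicOpen g ∧ pb f x hx g • m = 0 := by
  obtain ⟨k, c, d, y, hmy, -, hcd⟩ := exists_relation (pb f x hx) (flat_stalk f F hU x hx hflat)
    a 0 m 0 (by rw [hm, smul_zero])
  have key : ∀ j, ∃ g : Γ(S, U), s ∈ S.basicOpen g ∧ g * c j = 0 := fun j => by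
    apply exists_mul_eq_zero hU s hs
    apply ha
    rw [← map_mul, hcd, zero_mul, map_zero]
  choose g hg hgc using key
  refine ⟨∏ j, g j, mem_basicOpen_prod s _ _ hs fun i _ => hg i, ?_⟩
  rw [hmy, Finset.smul_sum]
  refine Finset.sum_eq_zero fun j _ => ?_
  rw [← mul_smul, ← map_mul, ← Finset.mul_prod_erase _ _ (Finset.mem_univ j),
    mul_comm (g j), mul_assoc, hgc, mul_zero, map_zero, zero_smul]

include hU in
/-- The pointwise form of the division statement. -/
theorem exists_smul_eq_smul_of_flat (x : X) (hx : f x ∈ U) (hflat : FlatMod.IsFlatOverAt f F x)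
    (a b : Γ(S, U)) (hab : ∀ c d : S.presheaf.stalk s, S.presheaf.germ U s hs b * c =
      S.presheaf.germ U s hs a * d → ∃ e, c = S.presheaf.germ U s hs a * e)
    (m n : F.presheaf.stalk x) (hm : pb f x hx b • m = pb f x hx a • n) :
    ∃ (g : Γ(S, U)) (w : F.presheaf.stalk x), s ∈ S.basicOpen g ∧
      pb f x hx g • m = pb f x hx a • w := by
  obtain ⟨k, c, d, y, hmy, -, hcd⟩ := exists_relation (pb f x hx) (flat_stalk f F hU x hx hflat)
    b a m n hm
  have key : ∀ j, ∃ g e : Γ(S, U), s ∈ S.basicOpen g ∧ g * c j = a * e := fun j => by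
    obtain ⟨e, he⟩ := hab (S.presheaf.germ U s hs (c j)) (S.presheaf.germ U s hs (d j)) (by
      rw [← map_mul, ← map_mul, hcd])
    exact exists_mul_eq_mul hU s hs a (c j) e he
  choose g e hg hgc using key
  refine ⟨∏ j, g j, ∑ j, pb f x hx ((∏ i ∈ Finset.univ.erase j, g i) * e j) • y j,
    mem_basicOpen_prod s _ _ hs fun i _ => hg i, ?_⟩
  rw [hmy, Finset.smul_sum, Finset.smul_sum]
  refine Finset.sum_congr rfl fun j _ => ?_
  rw [← mul_smul, ← map_mul, ← mul_smul, ← map_mul, ← Finset.mul_prod_erase _ _ (Finset.mem_univ j)]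
  congr 2
  linear_combination (∏ i ∈ Finset.univ.erase j, g i) * hgc j

end Local

section Glue

variable {U : S.Opens} (s : S) (hs : s ∈ U)

/-- Gluing of local quotients. -/
theorem exists_germ_eq_smul {ι : Type*} [Finite ι] (a : Γ(S, U))
    (t : Γ(F, f ⁻¹ᵁ U)) (W : ι → X.Opens) (hW : ∀ i, W i ≤ f ⁻¹ᵁ U)
    (hcov : ∀ x, f x ∈ U → ∃ i, x ∈ W i) (w : ∀ i, Γ(F, W i))
    (hw : ∀ i, resO (hW i) (f.app U a) • w i = res F (hW i) t)
    (hcomp : ∀ i j, ∀ᶠ y in 𝓝 s, ∀ x (hi : x ∈ W i) (hj : x ∈ W j), f x = y →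
      F.presheaf.germ (W i) x hi (w i) = F.presheaf.germ (W j) x hj (w j)) :
    ∃ m : (push f F).presheaf.stalk s,
      (push f F).presheaf.germ U s hs t = S.presheaf.germ U s hs a • m := by
  have h1 : ∀ᶠ y in 𝓝 s, ∀ i j, ∀ x (hi : x ∈ W i) (hj : x ∈ W j), f x = y →
      F.presheaf.germ (W i) x hi (w i) = F.presheaf.germ (W j) x hj (w j) :=
    Filter.eventually_all.2 fun i => Filter.eventually_all.2 fun j => hcomp i j
  have h2 := h1.and (U.isOpen.mem_nhds hs)
  obtain ⟨V₀, hV₀, hVo, hsV⟩ := eventually_nhds_iff.1 h2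
  let V : S.Opens := ⟨V₀, hVo⟩
  have hVU : V ≤ U := fun y hy => (hV₀ y hy).2
  have hVU' : f ⁻¹ᵁ V ≤ f ⁻¹ᵁ U := fun y hy => hVU hy
  let T : ι → X.Opens := fun i => W i ⊓ f ⁻¹ᵁ V
  obtain ⟨r, hr⟩ := exists_gluing F T (f ⁻¹ᵁ V) (fun i => inf_le_right)
    (fun x hx => Opens.mem_iSup.2 (by
      obtain ⟨i, hi⟩ := hcov x (hVU hx)
      exact ⟨i, hi, hx⟩))
    (fun i => res F (inf_le_left : W i ⊓ f ⁻¹ᵁ V ≤ W i) (w i)) (by
      intro i j
      apply ext_germ
      intro x hx
      rw [germ_res, germ_res, germ_res, germ_res]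
      exact (hV₀ (f x) hx.1.2).1 i j x hx.1.1 hx.2.1 rfl)
  have key : res F hVU' t = (f.app V (resO hVU a)) • r := by
    refine eq_of_locally_eq F T (f ⁻¹ᵁ V) (fun i => inf_le_right) (fun x hx => Opens.mem_iSup.2 (by
      obtain ⟨i, hi⟩ := hcov x (hVU hx)
      exact ⟨i, hi, hx⟩)) _ _ fun i => ?_
    rw [res_res, res_smul, hr i]
    have h3 := congrArg (res F (inf_le_left : W i ⊓ f ⁻¹ᵁ V ≤ W i)) (hw i)
    rw [res_res, res_smul, resO_resO] at h3
    rw [← h3]
    congr 1
    have h4 : f.app V (resO hVU a) = resO hVU' (f.app U a) := by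
      have := f.naturality (homOfLE hVU).op
      exact congr($this a)
    rw [h4, resO_resO]
  refine ⟨(push f F).presheaf.germ V s hsV r, ?_⟩
  have h5 := germ_res (push f F) hVU s hsV t
  have h6 := germ_resO hVU s hsV a
  have h7 := germ_smul (push f F) s hsV (resO hVU a) r
  rw [← h5, ← h6, ← h7]
  congr 1

end Glue

section Eventually

variable {U : S.Opens} (s : S) (hs : s ∈ U)

theorem germ_push_eq_zero_iff (t : Γ(F, f ⁻¹ᵁ U)) :
    (push f F).presheaf.germ U s hs t = 0 ↔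
      ∀ᶠ y in 𝓝 s, ∀ x (hx : f x ∈ U), f x = y → F.presheaf.germ (f ⁻¹ᵁ U) x hx t = 0 := by
  constructor
  · intro h
    obtain ⟨V, hsV, i, _, hV⟩ := (push f F).presheaf.germ_eq s hs hs t 0 (by rw [h, map_zero])
    filter_upwards [V.isOpen.mem_nhds hsV] with y hy x hx hxy
    subst hxy
    have hV' : res F (fun x hx => i.le hx : f ⁻¹ᵁ V ≤ f ⁻¹ᵁ U) t = 0 := by
      rw [map_zero] at hV
      exact hV
    rw [← germ_res F (fun x hx => i.le hx : f ⁻¹ᵁ V ≤ f ⁻¹ᵁ U) x hy, hV', map_zero]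
  · intro h
    obtain ⟨V₀, hV₀, hVo, hsV⟩ := eventually_nhds_iff.1 (h.and (U.isOpen.mem_nhds hs))
    let V : S.Opens := ⟨V₀, hVo⟩
    have hVU : V ≤ U := fun y hy => (hV₀ y hy).2
    have hVU' : f ⁻¹ᵁ V ≤ f ⁻¹ᵁ U := fun y hy => hVU hy
    have key : res F hVU' t = 0 := by
      apply ext_germ
      intro x hx
      rw [germ_res, map_zero]
      exact (hV₀ (f x) hx).1 x (hVU hx) rfl
    have h1 : (push f F).presheaf.germ V s hsV (res (push f F) hVU t) =
        (push f F).presheaf.germ U s hs t := germ_res (push f F) hVU s hsV t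
    have h2 : res (push f F) hVU t = 0 := key
    rw [← h1, h2, map_zero]

variable (hU : IsAffineOpen U)

include hU in
theorem eventually_germ_eq_zero (hflat : FlatMod.IsFlatOver f F) (a : Γ(S, U))
    (ha : ∀ c : S.presheaf.stalk s, S.presheaf.germ U s hs a * c = 0 → c = 0)
    {W : X.Opens} (hW : W ≤ f ⁻¹ᵁ U) (hc : IsCompact (W : Set X)) (w : Γ(F, W))
    (h : resO hW (f.app U a) • w = 0) :
    ∀ᶠ y in 𝓝 s, ∀ x (hx : x ∈ W), f x = y → F.presheaf.germ W x hx w = 0 := by
  have key : ∀ᶠ y in 𝓝 s, ∀ x (hx : x ∈ W), x ∈ (W : Set X) → f x = y →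
      F.presheaf.germ W x hx w = 0 := by
    refine IsCompact.induction_on (p := fun T => ∀ᶠ y in 𝓝 s, ∀ x (hx : x ∈ W), x ∈ T → f x = y →
      F.presheaf.germ W x hx w = 0) hc ?_ ?_ ?_ ?_
    · exact Filter.Eventually.of_forall fun y x hx h => h.elim
    · intro T T' hTT' h
      exact h.mono fun y hy x hx hxT => hy x hx (hTT' hxT)
    · intro T T' h h'
      exact (h.and h').mono fun y hy x hx hxT hxy =>
        hxT.elim (fun h => hy.1 x hx h hxy) (fun h => hy.2 x hx h hxy)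
    · intro x hx
      obtain ⟨g, hg, hgm⟩ := exists_smul_eq_zero_of_flat f F hU s hs x (hW hx) (hflat x) a ha
        (F.presheaf.germ W x hx w) (by
          have := congrArg (F.presheaf.germ W x hx) h
          rwa [germ_smul, germ_resO, map_zero] at this)
      have h0 : F.presheaf.germ W x hx (resO hW (f.app U g) • w) = 0 := by
        rw [germ_smul, germ_resO]
        exact hgm
      obtain ⟨T, hxT, i, _, hT⟩ := F.presheaf.germ_eq x hx hx (resO hW (f.app U g) • w) 0
        (by rw [h0, map_zero])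
      have hT' : res F i.le (resO hW (f.app U g) • w) = 0 := by
        rw [map_zero] at hT
        exact hT
      refine ⟨T, mem_nhdsWithin_of_mem_nhds (T.isOpen.mem_nhds hxT), ?_⟩
      filter_upwards [(S.basicOpen g).isOpen.mem_nhds hg] with y hy x' hx' hxT' hxy
      subst hxy
      have h1 : F.presheaf.germ W x' hx' (resO hW (f.app U g) • w) = 0 := by
        rw [← germ_res F i.le x' hxT', hT', map_zero]
      rw [germ_smul, germ_resO] at h1
      exact ((isUnit_pb f x' (hW hx') g hy).smul_eq_zero).mp h1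
  exact key.mono fun y hy x hx hxy => hy x hx hx hxy

include hU in
/-- The division statement for a flat module (Stacks 0EY0 (6)). -/
theorem exists_div_of_flat [QuasiCompact f] [QuasiSeparated f] (hflat : FlatMod.IsFlatOver f F)
    (a b : Γ(S, U))
    (ha : ∀ c : S.presheaf.stalk s, S.presheaf.germ U s hs a * c = 0 → c = 0)
    (hab : ∀ c d : S.presheaf.stalk s, S.presheaf.germ U s hs b * c =
      S.presheaf.germ U s hs a * d → ∃ e, c = S.presheaf.germ U s hs a * e)
    (t t' : Γ(F, f ⁻¹ᵁ U)) (h : f.app U b • t = f.app U a • t') :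
    ∃ m : (push f F).presheaf.stalk s,
      (push f F).presheaf.germ U s hs t = S.presheaf.germ U s hs a • m := by
  classical
  have hloc : ∀ x, f x ∈ U → ∃ (g : Γ(S, U)) (W : X.Opens) (hW : W ≤ f ⁻¹ᵁ U) (w : Γ(F, W)),
      x ∈ W ∧ IsCompact (W : Set X) ∧ s ∈ S.basicOpen g ∧
      resO hW (f.app U a) • w = resO hW (f.app U g) • res F hW t := by
    intro x hx
    obtain ⟨g, m, hg, hm⟩ := exists_smul_eq_smul_of_flat f F hU s hs x hx (hflat x) a b hab
      (F.presheaf.germ (f ⁻¹ᵁ U) x hx t) (F.presheaf.germ (f ⁻¹ᵁ U) x hx t') (by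
        have := congrArg (F.presheaf.germ (f ⁻¹ᵁ U) x hx) h
        rwa [germ_smul, germ_smul] at this)
    obtain ⟨W₁, hxW₁, w₁, rfl⟩ := TopCat.Presheaf.exists_germ_eq F.presheaf m
    have hle : W₁ ⊓ f ⁻¹ᵁ U ≤ f ⁻¹ᵁ U := inf_le_right
    have h1 : F.presheaf.germ (W₁ ⊓ f ⁻¹ᵁ U) x ⟨hxW₁, hx⟩
        (resO hle (f.app U g) • res F hle t) =
        F.presheaf.germ (W₁ ⊓ f ⁻¹ᵁ U) x ⟨hxW₁, hx⟩
        (resO hle (f.app U a) • res F inf_le_left w₁) := by
      rw [germ_smul, germ_smul, germ_resO, germ_resO, germ_res, germ_res]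
      exact hm
    obtain ⟨W₂, hxW₂, i, _, hW₂⟩ := F.presheaf.germ_eq x _ _ _ _ h1
    obtain ⟨W, hW, hxW, hWle⟩ := exists_isAffineOpen_mem_and_subset (x := x) (U := W₂) hxW₂
    have hWle' : W ≤ W₁ ⊓ f ⁻¹ᵁ U := (show W ≤ W₂ from hWle).trans i.le
    refine ⟨g, W, hWle'.trans inf_le_right, res F (hWle'.trans inf_le_left) w₁, hxW,
      hW.isCompact, hg, ?_⟩
    have h2 : res F i.le (resO hle (f.app U g) • res F hle t) =
      res F i.le (resO hle (f.app U a) • res F inf_le_left w₁) := hW₂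
    have h3 := congrArg (res F (show W ≤ W₂ from hWle)) h2
    simp only [res_res, res_smul, resO_resO] at h3
    exact h3.symm
  choose g W hW w hxW hWc hg hw using hloc
  have hc : IsCompact ((f ⁻¹ᵁ U : X.Opens) : Set X) := f.isCompact_preimage hU.isCompact
  have hqs : IsQuasiSeparated ((f ⁻¹ᵁ U : X.Opens) : Set X) :=
    f.isQuasiSeparated_preimage hU.isQuasiSeparated
  obtain ⟨T, hT⟩ := hc.elim_nhds_subcover' (fun x hx => (W x hx : Set X))
    (fun x hx => (W x hx).isOpen.mem_nhds (hxW x hx))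
  let ι := {x // x ∈ T}
  let g' : ι → Γ(S, U) := fun i => g i.1.1 i.1.2
  let W' : ι → X.Opens := fun i => W i.1.1 i.1.2
  have hW' : ∀ i, W' i ≤ f ⁻¹ᵁ U := fun i => hW i.1.1 i.1.2
  let w' : ∀ i : ι, Γ(F, W' i) := fun i => w i.1.1 i.1.2
  have hw' : ∀ i, resO (hW' i) (f.app U a) • w' i =
    resO (hW' i) (f.app U (g' i)) • res F (hW' i) t := fun i => hw i.1.1 i.1.2
  have hg' : ∀ i, s ∈ S.basicOpen (g' i) := fun i => hg i.1.1 i.1.2
  have hWc' : ∀ i, IsCompact (W' i : Set X) := fun i => hWc i.1.1 i.1.2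
  have hcov : ∀ x, f x ∈ U → ∃ i : ι, x ∈ W' i := by
    intro x hx
    have := hT (show x ∈ ((f ⁻¹ᵁ U : X.Opens) : Set X) from hx)
    simp only [Set.mem_iUnion] at this
    obtain ⟨y, hy, hxy⟩ := this
    exact ⟨⟨y, hy⟩, hxy⟩
  clear_value g' W' w'
  let G : Γ(S, U) := ∏ i, g' i
  let G' : ι → Γ(S, U) := fun i => ∏ j ∈ Finset.univ.erase i, g' j
  have hG : ∀ i, G' i * g' i = G := fun i => Finset.prod_erase_mul _ _ (Finset.mem_univ i)
  have hGs : s ∈ S.basicOpen G := mem_basicOpen_prod s _ _ hs fun i _ => hg' i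
  clear_value G G'
  obtain ⟨m, hm⟩ := exists_germ_eq_smul f F s hs a (f.app U G • t) W' hW' hcov
    (fun i => resO (hW' i) (f.app U (G' i)) • w' i)
    (fun i => by
      rw [smul_comm, hw', ← mul_smul, ← map_mul, ← map_mul, hG, ← res_smul])
    (fun i j => by
      have hle : W' i ⊓ W' j ≤ f ⁻¹ᵁ U := inf_le_left.trans (hW' i)
      have h1 := eventually_germ_eq_zero f F s hs hU hflat a ha hle
        (hqs _ _ (hW' i) (W' i).isOpen (hWc' i) (hW' j) (W' j).isOpen (hWc' j))
        (res F inf_le_left (resO (hW' i) (f.app U (G' i)) • w' i) -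
          res F inf_le_right (resO (hW' j) (f.app U (G' j)) • w' j)) (by
            rw [smul_sub, sub_eq_zero]
            have key : ∀ (k : ι) (hk : W' i ⊓ W' j ≤ W' k),
                resO hle (f.app U a) • res F hk (resO (hW' k) (f.app U (G' k)) • w' k) =
                res F hle (f.app U G • t) := by
              intro k hk
              have h2 := congrArg (res F hk) (hw' k)
              simp only [res_res, res_smul, resO_resO] at h2 ⊢
              rw [smul_comm, h2, ← mul_smul, ← map_mul, ← map_mul, hG]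
            rw [key, key])
      filter_upwards [h1] with y hy x hi hj hxy
      have h2 := hy x ⟨hi, hj⟩ hxy
      rw [map_sub, sub_eq_zero, germ_res, germ_res] at h2
      exact h2)
  have hu : IsUnit (S.presheaf.germ U s hs G) := (S.mem_basicOpen G s hs).mp hGs
  obtain ⟨v, hv⟩ := hu.exists_left_inv
  have h3 : (push f F).presheaf.germ U s hs (f.app U G • t) =
    S.presheaf.germ U s hs G • (push f F).presheaf.germ U s hs t := germ_smul (push f F) s hs G t
  refine ⟨v • m, ?_⟩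
  rw [smul_comm, ← hm, h3, ← mul_smul, hv, one_smul]

end Eventually

section Stalk

variable (s : S)

/-- Common affine representatives of germs. -/
theorem exists_rep (P : S.Modules) (x y : S.presheaf.stalk s) (m n : P.presheaf.stalk s) :
    ∃ (U : S.Opens) (_ : IsAffineOpen U) (hs : s ∈ U) (a b : Γ(S, U)) (t t' : Γ(P, U)),
      S.presheaf.germ U s hs a = x ∧ S.presheaf.germ U s hs b = y ∧
      P.presheaf.germ U s hs t = m ∧ P.presheaf.germ U s hs t' = n := by
  obtain ⟨U₁, h₁, a, rfl⟩ := TopCat.Presheaf.exists_germ_eq S.presheaf x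
  obtain ⟨U₂, h₂, b, rfl⟩ := TopCat.Presheaf.exists_germ_eq S.presheaf y
  obtain ⟨U₃, h₃, t, rfl⟩ := TopCat.Presheaf.exists_germ_eq P.presheaf m
  obtain ⟨U₄, h₄, t', rfl⟩ := TopCat.Presheaf.exists_germ_eq P.presheaf n
  obtain ⟨U, hU, hs, hle⟩ := exists_isAffineOpen_mem_and_subset (x := s)
    (U := (U₁ ⊓ U₂) ⊓ (U₃ ⊓ U₄)) ⟨⟨h₁, h₂⟩, ⟨h₃, h₄⟩⟩
  have hle' : U ≤ (U₁ ⊓ U₂) ⊓ (U₃ ⊓ U₄) := hle
  have l₁ : U ≤ U₁ := fun z hz => (hle' hz).1.1
  have l₂ : U ≤ U₂ := fun z hz => (hle' hz).1.2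
  have l₃ : U ≤ U₃ := fun z hz => (hle' hz).2.1
  have l₄ : U ≤ U₄ := fun z hz => (hle' hz).2.2
  exact ⟨U, hU, hs, resO l₁ a, resO l₂ b, res P l₃ t, res P l₄ t', germ_resO l₁ s hs a,
    germ_resO l₂ s hs b, germ_res P l₃ s hs t, germ_res P l₄ s hs t'⟩

theorem exists_affine_res_eq (P : S.Modules) {U : S.Opens} (hs : s ∈ U) (t t' : Γ(P, U))
    (h : P.presheaf.germ U s hs t = P.presheaf.germ U s hs t') :
    ∃ (V : S.Opens) (_ : IsAffineOpen V) (_ : s ∈ V) (hle : V ≤ U), res P hle t = res P hle t' := by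
  obtain ⟨W, hsW, i, _, hW⟩ := P.presheaf.germ_eq s hs hs t t' h
  obtain ⟨V, hV, hsV, hle⟩ := exists_isAffineOpen_mem_and_subset (x := s) (U := W) hsW
  refine ⟨V, hV, hsV, (show V ≤ W from hle).trans i.le, ?_⟩
  have h1 : res P i.le t = res P i.le t' := hW
  have h2 := congrArg (res P (show V ≤ W from hle)) h1
  rwa [res_res, res_res] at h2

theorem app_resO {U V : S.Opens} (h : V ≤ U) (a : Γ(S, U)) :
    f.app V (resO h a) = resO (fun _ hx => h hx : f ⁻¹ᵁ V ≤ f ⁻¹ᵁ U) (f.app U a) := by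
  have := f.naturality (homOfLE h).op
  exact congr($this a)

theorem eq_zero_of_flat [QuasiCompact f] (hflat : FlatMod.IsFlatOver f F)
    (x : S.presheaf.stalk s) (hx : ∀ c : S.presheaf.stalk s, x * c = 0 → c = 0)
    (m : (push f F).presheaf.stalk s) (hm : x • m = 0) : m = 0 := by
  obtain ⟨U, hU, hs, a, -, t, -, rfl, -, rfl, -⟩ := exists_rep s (push f F) x x m m
  obtain ⟨V, hV, hsV, hle, h1⟩ := exists_affine_res_eq s (push f F) hs (a • t) 0 (by
    rw [germ_smul, hm, map_zero])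
  rw [res_smul, map_zero] at h1
  rw [← germ_resO hle s hsV] at hx
  rw [← germ_res (push f F) hle s hsV]
  refine (germ_push_eq_zero_iff f F s hsV (res (push f F) hle t)).2 ?_
  have h2 : resO (le_refl (f ⁻¹ᵁ V)) (f.app V (resO hle a)) •
      (show Γ(F, f ⁻¹ᵁ V) from res (push f F) hle t) = 0 := by
    rw [resO_rfl]
    exact h1
  exact eventually_germ_eq_zero f F s hsV hV hflat (resO hle a) hx (le_refl (f ⁻¹ᵁ V))
    (f.isCompact_preimage hV.isCompact) (res (push f F) hle t) h2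

theorem exists_eq_smul_of_flat [QuasiCompact f] [QuasiSeparated f]
    (hflat : FlatMod.IsFlatOver f F) (x y : S.presheaf.stalk s)
    (hx : ∀ c : S.presheaf.stalk s, x * c = 0 → c = 0)
    (hxy : ∀ c d : S.presheaf.stalk s, y * c = x * d → ∃ e, c = x * e)
    (m n : (push f F).presheaf.stalk s) (hm : y • m = x • n) : ∃ e, m = x • e := by
  obtain ⟨U, hU, hs, a, b, t, t', rfl, rfl, rfl, rfl⟩ := exists_rep s (push f F) x y m n
  obtain ⟨V, hV, hsV, hle, h1⟩ := exists_affine_res_eq s (push f F) hs (b • t) (a • t') (by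
    rw [germ_smul, hm, germ_smul])
  rw [res_smul, res_smul] at h1
  rw [← germ_resO hle s hsV] at hx hxy
  rw [← germ_resO hle s hsV] at hxy
  rw [← germ_res (push f F) hle s hsV]
  have h2 := exists_div_of_flat f F s hsV hV hflat (resO hle a) (resO hle b) hx
    (fun c d hcd => hxy c d hcd) (res (push f F) hle t) (res (push f F) hle t') h1
  rw [germ_resO] at h2
  exact h2

open Groth.Agent.Divis.DepthTwo in
/-- Stacks 0EY0 (6). -/
theorem depth_of_flat [QuasiCompact f] [QuasiSeparated f] (hflat : FlatMod.IsFlatOver f F) :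
    min (2 : ℕ∞) (LocCoh.depth (S.presheaf.stalk s) (S.presheaf.stalk s)) ≤
      LocCoh.depth (S.presheaf.stalk s) ((push f F).presheaf.stalk s) := by
  have hne : IsLocalRing.maximalIdeal (S.presheaf.stalk s) •
      (⊤ : Submodule (S.presheaf.stalk s) (S.presheaf.stalk s)) ≠ ⊤ := by
    rw [smul_eq_mul, Ideal.mul_top]
    exact (IsLocalRing.maximalIdeal.isMaximal _).ne_top
  by_cases h2 : 2 ≤ LocCoh.depth (S.presheaf.stalk s) (S.presheaf.stalk s)
  · obtain ⟨a, ha, b, hb, hab⟩ := exists_regPair_of_two_le_idealDepth hne h2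
    have h : RegPair a b ((push f F).presheaf.stalk s) :=
      ⟨fun m hm => eq_zero_of_flat f F s hflat a hab.inj m hm,
       fun m n hm => exists_eq_smul_of_flat f F s hflat a b hab.inj hab.div m n hm⟩
    exact (min_le_left _ _).trans (h.two_le_idealDepth ha hb)
  · by_cases h1 : (1 : ℕ) ≤ LocCoh.depth (S.presheaf.stalk s) (S.presheaf.stalk s)
    · have h3 : LocCoh.depth (S.presheaf.stalk s) (S.presheaf.stalk s) ≤ (1 : ℕ) := by
        rw [not_le] at h2
        exact ENat.lt_add_one_iff (by simp) |>.mp (by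
          rw [Nat.cast_one, one_add_one_eq_two]; exact h2)
      refine (min_le_right _ _).trans (h3.trans ?_)
      obtain h4 | ⟨rs, hlen, hrs, hmem⟩ :=
        (Groth.Agent.Ega4C.DepthBasics.natCast_le_idealDepth_iff _ 1).mp h1
      · exact absurd h4 hne
      · obtain ⟨a, rfl⟩ := List.length_eq_one_iff.mp hlen
        rw [RingTheory.Sequence.isWeaklyRegular_singleton_iff] at hrs
        refine (Groth.Agent.Ega4C.DepthBasics.natCast_le_idealDepth_iff _ 1).mpr
          (Or.inr ⟨[a], rfl, ?_, hmem⟩)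
        rw [RingTheory.Sequence.isWeaklyRegular_singleton_iff]
        rw [isSMulRegular_iff_right_eq_zero_of_smul] at hrs ⊢
        exact fun m hm => eq_zero_of_flat f F s hflat a (fun c hc => hrs c hc) m hm
    · rw [not_le] at h1
      have h3 : LocCoh.depth (S.presheaf.stalk s) (S.presheaf.stalk s) = 0 := by
        rwa [Nat.cast_one, Order.lt_one_iff] at h1
      rw [h3]
      exact (min_le_right _ _).trans zero_le

end Stalk

section Cover

variable {U : S.Opens} (s : S) (hs : s ∈ U) (hU : IsAffineOpen U)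

/-- If a finite sum `∑ b_i φ(z_i)` is invertible at a point then so is some `φ(z_i)`. -/
theorem exists_isUnit_of_mem_span {A B : Type*} [CommRing A] [CommRing B] [IsLocalRing B]
    (φ : A →+* B) (Z : Set A) (u : B) (hu : IsUnit u) (h : u ∈ Ideal.span (φ '' Z)) :
    ∃ z ∈ Z, IsUnit (φ z) := by
  by_contra! hcon
  have : Ideal.span (φ '' Z) ≤ IsLocalRing.maximalIdeal B := by
    rw [Ideal.span_le]
    rintro _ ⟨z, hz, rfl⟩
    exact hcon z hz
  exact (IsLocalRing.mem_maximalIdeal _).mp (this h) hu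

include hs hU in
theorem exists_mem_of_affine (hsX : s ∉ Set.range (fun x => f x)) {V : X.Opens}
    (hV : IsAffineOpen V) (hVU : V ≤ f ⁻¹ᵁ U) :
    ∃ (g : Γ(S, U)) (Z : Finset Γ(S, U)), s ∈ S.basicOpen g ∧ (∀ z ∈ Z, s ∉ S.basicOpen z) ∧
      f.appLE U V hVU g ∈ Ideal.span ((f.appLE U V hVU) '' (Z : Set Γ(S, U))) := by
  classical
  set φ := (f.appLE U V hVU).hom with hφ
  set p := (hU.primeIdealOf ⟨s, hs⟩) with hp
  have hex : ∃ g ∉ p.asIdeal, φ g ∈ p.asIdeal.map φ := by
    by_contra! hcon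
    have hdisj : Disjoint (p.asIdeal.map φ : Set Γ(X, V))
        ((p.asIdeal.primeCompl.map φ : Submonoid Γ(X, V)) : Set Γ(X, V)) := by
      rw [Set.disjoint_left]
      rintro _ hx ⟨g, hg, rfl⟩
      exact hcon g hg hx
    obtain ⟨Q, hQ, hle, hd⟩ := Ideal.exists_le_prime_disjoint _ _ hdisj
    have hcomap : Q.comap φ = p.asIdeal := by
      apply le_antisymm
      · intro x hx
        by_contra hxp
        exact Set.disjoint_left.mp hd hx ⟨x, hxp, rfl⟩
      · exact Ideal.map_le_iff_le_comap.mp hle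
    apply hsX
    let q : Spec Γ(X, V) := ⟨Q, hQ⟩
    refine ⟨hV.fromSpec q, ?_⟩
    have h1 : hU.fromSpec (Spec.map (f.appLE U V hVU) q) = f (hV.fromSpec q) :=
      congr($(IsAffineOpen.SpecMap_appLE_fromSpec f hU hV hVU) q)
    have h2 : Spec.map (f.appLE U V hVU) q = p := PrimeSpectrum.ext hcomap
    change f (hV.fromSpec q) = s
    rw [← h1, h2, hp, hU.fromSpec_primeIdealOf]
  obtain ⟨g, hg, hgm⟩ := hex
  obtain ⟨T, hT, hgT⟩ := Submodule.mem_span_finite_of_mem_span hgm
  obtain ⟨Z, hZ, rfl⟩ := Finset.subset_set_image_iff.mp hT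
  refine ⟨g, Z, (Groth.Agent.Fdesc.QCohStalk.mem_basicOpen_iff hU s hs g).mpr hg, ?_, ?_⟩
  · intro z hz hsz
    exact (Groth.Agent.Fdesc.QCohStalk.mem_basicOpen_iff hU s hs z).mp hsz (hZ hz)
  · rw [Finset.coe_image] at hgT
    exact hgT

include hs hU in
theorem exists_cover [QuasiCompact f] (hsX : s ∉ Set.range (fun x => f x)) :
    ∃ (Z : Finset Γ(S, U)), (∀ z ∈ Z, s ∉ S.basicOpen z) ∧
      ∀ᶠ y in 𝓝 s, ∀ x, f x = y → ∃ z ∈ Z, y ∈ S.basicOpen z := by
  classical
  have key : ∃ (Z : Finset Γ(S, U)), (∀ z ∈ Z, s ∉ S.basicOpen z) ∧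
      ∀ᶠ y in 𝓝 s, ∀ x ∈ ((f ⁻¹ᵁ U : X.Opens) : Set X), f x = y → ∃ z ∈ Z, y ∈ S.basicOpen z := by
    refine IsCompact.induction_on (p := fun T => ∃ (Z : Finset Γ(S, U)),
      (∀ z ∈ Z, s ∉ S.basicOpen z) ∧ ∀ᶠ y in 𝓝 s, ∀ x ∈ T, f x = y →
        ∃ z ∈ Z, y ∈ S.basicOpen z) (f.isCompact_preimage hU.isCompact) ?_ ?_ ?_ ?_
    · exact ⟨∅, by simp, Filter.Eventually.of_forall fun y x hx => hx.elim⟩
    · rintro T T' hTT' ⟨Z, h1, h2⟩
      exact ⟨Z, h1, h2.mono fun y hy x hx => hy x (hTT' hx)⟩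
    · rintro T T' ⟨Z, h1, h2⟩ ⟨Z', h1', h2'⟩
      refine ⟨Z ∪ Z', ?_, ?_⟩
      · intro z hz
        rcases Finset.mem_union.mp hz with hz | hz
        · exact h1 z hz
        · exact h1' z hz
      · filter_upwards [h2, h2'] with y hy hy' x hx hxy
        rcases hx with hx | hx
        · obtain ⟨z, hz, hyz⟩ := hy x hx hxy
          exact ⟨z, Finset.mem_union_left _ hz, hyz⟩
        · obtain ⟨z, hz, hyz⟩ := hy' x hx hxy
          exact ⟨z, Finset.mem_union_right _ hz, hyz⟩
    · intro x hx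
      obtain ⟨V, hV, hxV, hVU⟩ := exists_isAffineOpen_mem_and_subset (x := x) (U := f ⁻¹ᵁ U) hx
      obtain ⟨g, Z, hg, hZ, hgZ⟩ := exists_mem_of_affine f s hs hU hsX hV hVU
      refine ⟨V, mem_nhdsWithin_of_mem_nhds (V.isOpen.mem_nhds hxV), Z, hZ, ?_⟩
      filter_upwards [(S.basicOpen g).isOpen.mem_nhds hg] with y hy x' hx' hxy
      subst hxy
      have hxU : f x' ∈ U := hVU hx'
      have hpb : ∀ c, X.presheaf.germ V x' hx' (f.appLE U V hVU c) = pb f x' hxU c := by
        intro c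
        rw [pb_apply, ← germ_resO (show V ≤ f ⁻¹ᵁ U from hVU) x' hx']
        rfl
      have h1 : pb f x' hxU g ∈ Ideal.span ((pb f x' hxU) '' (Z : Set Γ(S, U))) := by
        have h2 := Ideal.mem_map_of_mem (X.presheaf.germ V x' hx').hom hgZ
        rw [Ideal.map_span, ← Set.image_comp] at h2
        have h3 : ((X.presheaf.germ V x' hx').hom ∘ (f.appLE U V hVU)) '' (Z : Set Γ(S, U)) =
            (pb f x' hxU) '' (Z : Set Γ(S, U)) :=
          Set.image_congr fun c _ => hpb c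
        rw [h3] at h2
        rw [← hpb]
        exact h2
      obtain ⟨z, hz, hzu⟩ := exists_isUnit_of_mem_span _ _ _ (isUnit_pb f x' hxU g hy) h1
      refine ⟨z, hz, ?_⟩
      rw [S.mem_basicOpen z _ hxU]
      rw [pb_eq_stalkMap] at hzu
      exact (isUnit_map_iff (f.stalkMap x').hom _).mp hzu
  obtain ⟨Z, h1, h2⟩ := key
  refine ⟨Z, h1, ?_⟩
  filter_upwards [h2, U.isOpen.mem_nhds hs] with y hy hyU x hxy
  subst hxy
  exact hy x hyU rfl

end Cover

section NotMem

variable (s : S)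

theorem germ_mem_maximalIdeal {U : S.Opens} (hs : s ∈ U) (z : Γ(S, U)) (hz : s ∉ S.basicOpen z) :
    S.presheaf.germ U s hs z ∈ IsLocalRing.maximalIdeal (S.presheaf.stalk s) := by
  rw [IsLocalRing.mem_maximalIdeal, mem_nonunits_iff]
  rwa [S.mem_basicOpen z s hs] at hz

theorem germ_eq_zero_of_forall [QuasiCompact f] (hsX : s ∉ Set.range (fun x => f x))
    {U : S.Opens} (hU : IsAffineOpen U) (hs : s ∈ U) (t : Γ(F, f ⁻¹ᵁ U))
    (hm : ∀ z ∈ IsLocalRing.maximalIdeal (S.presheaf.stalk s),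
      z • (push f F).presheaf.germ U s hs t = 0) : (push f F).presheaf.germ U s hs t = 0 := by
  obtain ⟨Z, hZ, hcov⟩ := exists_cover f s hs hU hsX
  rw [germ_push_eq_zero_iff]
  have h1 : ∀ᶠ y in 𝓝 s, ∀ z ∈ Z, ∀ x (hx : f x ∈ U), f x = y →
      F.presheaf.germ (f ⁻¹ᵁ U) x hx (f.app U z • t) = 0 := by
    rw [Filter.eventually_all_finset]
    intro z hz
    rw [← germ_push_eq_zero_iff f F s hs]
    have h2 := germ_smul (push f F) s hs z t
    exact h2.trans (hm _ (germ_mem_maximalIdeal s hs z (hZ z hz)))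
  filter_upwards [h1, hcov] with y hy hy' x hx hxy
  obtain ⟨z, hz, hyz⟩ := hy' x hxy
  have h2 := hy z hz x hx hxy
  subst hxy
  rw [germ_smul] at h2
  exact ((isUnit_pb f x hx z hyz).smul_eq_zero).mp h2

/-- No nonzero element of the stalk is killed by the maximal ideal. -/
theorem eq_zero_of_forall [QuasiCompact f] (hsX : s ∉ Set.range (fun x => f x))
    (m : (push f F).presheaf.stalk s)
    (hm : ∀ z ∈ IsLocalRing.maximalIdeal (S.presheaf.stalk s), z • m = 0) : m = 0 := by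
  obtain ⟨U, hU, hs, -, -, t, -, -, -, rfl, -⟩ := exists_rep s (push f F) 0 0 m m
  exact germ_eq_zero_of_forall f F s hsX hU hs t hm

theorem exists_div_of_cover {V : S.Opens} (hsV : s ∈ V) {ι : Type*} [Finite ι] (z : ι → Γ(S, V))
    (hcov : ∀ x, f x ∈ V → ∃ i, f x ∈ S.basicOpen (z i)) (a : Γ(S, V))
    (ha : ∀ m : (push f F).presheaf.stalk s, S.presheaf.germ V s hsV a • m = 0 → m = 0)
    (t : Γ(F, f ⁻¹ᵁ V)) (t' : ι → Γ(F, f ⁻¹ᵁ V)) (h : ∀ i, f.app V (z i) • t = f.app V a • t' i) :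
    ∃ m : (push f F).presheaf.stalk s,
      (push f F).presheaf.germ V s hsV t = S.presheaf.germ V s hsV a • m := by
  let W : ι → X.Opens := fun i => f ⁻¹ᵁ (S.basicOpen (z i))
  have hW : ∀ i, W i ≤ f ⁻¹ᵁ V := fun i x hx => S.basicOpen_le (z i) hx
  have hunit : ∀ i, IsUnit (resO (hW i) (f.app V (z i))) := by
    intro i
    have h1 := app_resO f (S.basicOpen_le (z i)) (z i)
    have h2 : IsUnit (resO (S.basicOpen_le (z i)) (z i)) := RingedSpace.isUnit_res_basicOpen _ (z i)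
    have h3 : IsUnit (f.app (S.basicOpen (z i)) (resO (S.basicOpen_le (z i)) (z i))) :=
      h2.map (f.app (S.basicOpen (z i))).hom
    rw [h1] at h3
    exact h3
  have hu : ∀ i, ∃ u : Γ(F, W i), resO (hW i) (f.app V (z i)) • u = res F (hW i) (t' i) := by
    intro i
    obtain ⟨v, hv⟩ := (hunit i).exists_right_inv
    exact ⟨v • res F (hW i) (t' i), by rw [← mul_smul, hv, one_smul]⟩
  choose u hu using hu
  refine exists_germ_eq_smul f F s hsV a t W hW hcov u (fun i => ?_) (fun i j => ?_)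
  · have h1 := congrArg (res F (hW i)) (h i)
    rw [res_smul, res_smul, ← hu, smul_comm] at h1
    exact ((hunit i).smul_left_cancel.mp h1).symm
  · have h1 : (push f F).presheaf.germ V s hsV (f.app V (z j) • t' i - f.app V (z i) • t' j) = 0 := by
      apply ha
      have h2 := germ_smul (push f F) s hsV a (f.app V (z j) • t' i - f.app V (z i) • t' j)
      rw [← h2]
      have h3 : (a • (show Γ(push f F, V) from f.app V (z j) • t' i - f.app V (z i) • t' j) :
          Γ(push f F, V)) = 0 := by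
        change f.app V a • (f.app V (z j) • t' i - f.app V (z i) • t' j) = 0
        rw [smul_sub, smul_comm, ← h i, smul_comm (f.app V a), ← h j, smul_comm, sub_self]
      exact (congrArg _ h3).trans (map_zero _)
    rw [germ_push_eq_zero_iff] at h1
    filter_upwards [h1] with y hy x hi hj hxy
    have h2 := hy x (hW i hi) hxy
    rw [map_sub, sub_eq_zero, germ_smul, germ_smul] at h2
    have h3 := congrArg (F.presheaf.germ (W i) x hi) (hu i)
    have h4 := congrArg (F.presheaf.germ (W j) x hj) (hu j)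
    rw [germ_smul, germ_resO, germ_res] at h3 h4
    rw [← h3, ← h4, smul_comm] at h2
    exact ((isUnit_pb f x (hW j hj) (z j) hj).smul_left_cancel).mp
      (((isUnit_pb f x (hW i hi) (z i) hi).smul_left_cancel).mp h2)

/-- Common representatives of finitely many germs. -/
theorem exists_rep_finite (P : S.Modules) {ι : Type*} [Finite ι]
    (m : ι → P.presheaf.stalk s) :
    ∃ (V : S.Opens) (_ : s ∈ V), ∀ (W : S.Opens) (_ : W ≤ V) (hsW : s ∈ W),
      ∃ t : ι → Γ(P, W), ∀ i, P.presheaf.germ W s hsW (t i) = m i := by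
  choose U hU t ht using fun i => TopCat.Presheaf.exists_germ_eq P.presheaf (m i)
  have h1 : ∀ᶠ y in 𝓝 s, ∀ i, y ∈ U i :=
    Filter.eventually_all.2 fun i => (U i).isOpen.mem_nhds (hU i)
  obtain ⟨V₀, hV₀, hVo, hsV⟩ := eventually_nhds_iff.1 h1
  refine ⟨⟨V₀, hVo⟩, hsV, fun W hWV hsW => ?_⟩
  have hle : ∀ i, W ≤ U i := fun i y hy => hV₀ y (hWV hy) i
  exact ⟨fun i => res P (hle i) (t i), fun i => by rw [germ_res, ht]⟩

/-- Finitely many equalities of germs hold on a common neighbourhood. -/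
theorem exists_eq_finite (P : S.Modules) {U : S.Opens} (hs : s ∈ U) {ι : Type*} [Finite ι]
    (t t' : ι → Γ(P, U)) (h : ∀ i, P.presheaf.germ U s hs (t i) = P.presheaf.germ U s hs (t' i)) :
    ∃ (V : S.Opens) (_ : s ∈ V) (hle : V ≤ U), ∀ i, res P hle (t i) = res P hle (t' i) := by
  choose W hsW i₁ i₂ hW using fun i => P.presheaf.germ_eq s hs hs (t i) (t' i) (h i)
  have h1 : ∀ᶠ y in 𝓝 s, y ∈ U ∧ ∀ i, y ∈ W i :=
    Filter.Eventually.and (U.isOpen.mem_nhds hs)
      (Filter.eventually_all.2 fun i => (W i).isOpen.mem_nhds (hsW i))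
  obtain ⟨V₀, hV₀, hVo, hsV⟩ := eventually_nhds_iff.1 h1
  refine ⟨⟨V₀, hVo⟩, hsV, fun y hy => (hV₀ y hy).1, fun i => ?_⟩
  have hle : (⟨V₀, hVo⟩ : S.Opens) ≤ W i := fun y hy => (hV₀ y hy).2 i
  have h2 : res P (i₁ i).le (t i) = res P (i₁ i).le (t' i) := hW i
  have h3 := congrArg (res P hle) h2
  rwa [res_res, res_res] at h3

/-- Division by a regular element. -/
theorem exists_eq_smul_of_forall [QuasiCompact f] (hsX : s ∉ Set.range (fun x => f x))
    (x : S.presheaf.stalk s) (hx : ∀ m : (push f F).presheaf.stalk s, x • m = 0 → m = 0)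
    (m : (push f F).presheaf.stalk s)
    (hm : ∀ z ∈ IsLocalRing.maximalIdeal (S.presheaf.stalk s), ∃ m', z • m = x • m') :
    ∃ m', m = x • m' := by
  obtain ⟨U, hU, hs, a, -, t, -, rfl, -, rfl, -⟩ := exists_rep s (push f F) x x m m
  obtain ⟨Z, hZ, hcov⟩ := exists_cover f s hs hU hsX
  have h1 : ∀ z : Z, ∃ m', S.presheaf.germ U s hs z.1 • (push f F).presheaf.germ U s hs t =
      S.presheaf.germ U s hs a • m' := fun z =>
    hm _ (germ_mem_maximalIdeal s hs z.1 (hZ z.1 z.2))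
  choose m' hm' using h1
  obtain ⟨V₁, hsV₁, hV₁⟩ := exists_rep_finite s (push f F) m'
  obtain ⟨V₂, hV₂, hVo₂, hsV₂⟩ := eventually_nhds_iff.1 hcov
  let W : S.Opens := (V₁ ⊓ U) ⊓ ⟨V₂, hVo₂⟩
  have hWU : W ≤ U := fun y hy => hy.1.2
  obtain ⟨t', ht'⟩ := hV₁ W (fun y hy => hy.1.1) ⟨⟨hsV₁, hs⟩, hsV₂⟩
  obtain ⟨V, hsV, hVW, hV⟩ := exists_eq_finite s (push f F) (U := W) ⟨⟨hsV₁, hs⟩, hsV₂⟩
    (fun z : Z => resO hWU z.1 • res (push f F) hWU t) (fun z : Z => resO hWU a • t' z)
    (fun z => by rw [germ_smul, germ_smul, germ_resO, germ_res, germ_resO, ht', hm'])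
  have hVU : V ≤ U := hVW.trans hWU
  rw [← germ_resO hVU s hsV] at hx ⊢
  rw [← germ_res (push f F) hVU s hsV]
  refine exists_div_of_cover f F s hsV (fun z : Z => resO hVU z.1) ?_ (resO hVU a) hx
    (res (push f F) hVU t) (fun z => res (push f F) hVW (t' z)) ?_
  · intro x hx
    obtain ⟨z, hz, hxz⟩ := hV₂ (f x) (hVW hx).2 x rfl
    refine ⟨⟨z, hz⟩, ?_⟩
    rw [basicOpen_resO]
    exact ⟨hx, hxz⟩
  · intro z
    have h2 := hV z
    simp only [res_smul, res_res, resO_resO] at h2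
    exact h2

open Groth.Agent.Divis.DepthTwo in
/-- Stacks 0EY0 (3). -/
theorem depth_of_notMem [QuasiCompact f] (hsX : s ∉ Set.range (fun x => f x))
    [IsNoetherianRing (S.presheaf.stalk s)]
    [Module.Finite (S.presheaf.stalk s) ((push f F).presheaf.stalk s)] :
    2 ≤ LocCoh.depth (S.presheaf.stalk s) ((push f F).presheaf.stalk s) := by
  set R := S.presheaf.stalk s
  set M := (push f F).presheaf.stalk s
  obtain ⟨a, ha, ha'⟩ := exists_regular_of_forall (R := R) (M := M) (IsLocalRing.maximalIdeal R) ⊥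
    (fun p hp hle m hm => by
      refine ⟨1, (Ideal.ne_top_iff_one p).mp hp.ne_top, ?_⟩
      rw [Submodule.mem_bot, one_smul]
      exact eq_zero_of_forall f F s hsX m fun z hz => (Submodule.mem_bot _).mp (hm z (hle hz)))
  simp only [Submodule.mem_bot] at ha'
  obtain ⟨b, hb, hb'⟩ := exists_regular_of_forall (R := R) (M := M) (IsLocalRing.maximalIdeal R)
    (LinearMap.range (LinearMap.lsmul R M a))
    (fun p hp hle m hm => by
      refine ⟨1, (Ideal.ne_top_iff_one p).mp hp.ne_top, ?_⟩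
      rw [one_smul]
      obtain ⟨m', hm'⟩ := exists_eq_smul_of_forall f F s hsX a ha' m fun z hz => by
        obtain ⟨y, hy⟩ := hm z (hle hz)
        exact ⟨y, hy.symm⟩
      exact ⟨m', hm'.symm⟩)
  have h : RegPair a b M := ⟨ha', fun x y hxy => by
    obtain ⟨z, hz⟩ := hb' x ⟨y, hxy.symm⟩
    exact ⟨z, hz.symm⟩⟩
  exact h.two_le_idealDepth ha hb

end NotMem

end Groth.Agent.Divis.PushDepth
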