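import Groth.Agent.Divis.StalkPrime

/-!
# Radical stalk ideals

* `isRadical_stalkIdeal_vanishingIdeal`.
* `mem_minimalPrimes_of_colon`: a prime of the form `(I : a)` with `I` radical is minimal over `I`.
-/

set_option autoImplicit false
universe u

open CategoryTheory CategoryTheory.Limits AlgebraicGeometry TopologicalSpace

namespace Groth.Agent.Divis.RadStalk

open Groth.Agent.Divis.CartierBasic

variable {X : Scheme.{u}}

theorem stalkIdeal_isRadical (I : X.IdealSheafData) (hI : I.radical = I) (x : X) :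
    (stalkIdeal I x).IsRadical := by
  obtain ⟨U, hxU⟩ := exists_affine x
  let := X.presheaf.algebra_section_stalk (⟨x, hxU⟩ : U.1)
  have hloc : IsLocalization.AtPrime (X.presheaf.stalk x) (U.2.primeIdealOf ⟨x, hxU⟩).asIdeal :=
    U.2.isLocalization_stalk ⟨x, hxU⟩
  have h1 := IsLocalization.map_radical (U.2.primeIdealOf ⟨x, hxU⟩).asIdeal.primeCompl
    (X.presheaf.stalk x) (I.ideal U)
  rw [← Scheme.IdealSheafData.radical_ideal, hI] at h1
  rw [stalkIdeal_eq I U hxU]
  exact Ideal.radical_eq_iff.1 h1.symm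

/-- A prime of the form `(I : a)` with `I` radical is minimal over `I`. -/
theorem mem_minimalPrimes_of_colon {A : Type*} [CommRing A] (I : Ideal A) (hI : I.IsRadical)
    (p : Ideal A) [hp : p.IsPrime] (a : A) (h : ∀ r, r ∈ p ↔ r * a ∈ I) : p ∈ I.minimalPrimes := by
  have ha : a ∉ I := fun ha => hp.ne_top ((Ideal.eq_top_iff_one p).2 ((h 1).2 (by rwa [one_mul])))
  have h1 : a ∉ sInf I.minimalPrimes := by
    rw [Ideal.sInf_minimalPrimes, hI.radical]; exact ha
  rw [Submodule.mem_sInf] at h1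
  push Not at h1
  obtain ⟨q, hq, haq⟩ := h1
  have hqp : Ideal.IsPrime q := hq.1.1
  have h2 : p ≤ q := by
    intro r hr
    rcases hqp.mem_or_mem (hq.1.2 ((h r).1 hr)) with h3 | h3
    · exact h3
    · exact absurd h3 haq
  have h3 : I ≤ p := fun i hi => (h i).2 (Ideal.mul_mem_right _ _ hi)
  have h4 : p = q := le_antisymm h2 (hq.2 ⟨hp, h3⟩ h2)
  rw [h4]; exact hq

end Groth.Agent.Divis.RadStalk
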