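import Groth.Agent.Divis.ExtendStalk
import Groth.Agent.Dcoh.StalkRestrict

/-!
# Reflexive coherent modules and restriction to opens
-/

set_option autoImplicit false
universe u
open CategoryTheory CategoryTheory.Limits AlgebraicGeometry TopologicalSpace Opposite

namespace Groth.Agent.Divis.ReflexSheaf

open Groth.Agent.CohqB.QC2 Groth.Agent.Divis.DepthTwo Groth.Agent.Divis.ExtendTwo
open Groth.Agent.Divis.StalkMod Groth.Agent.Divis.ReflexAlg Groth.Agent.Divis.ExtendStalk

section semilinear

variable {R S : Type*} [CommRing R] [CommRing S] (σ : R ≃+* S)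
  {M N : Type*} [AddCommGroup M] [AddCommGroup N] [Module R M] [Module S N] (e : M ≃+ N)
  (he : ∀ (r : R) (m : M), e (r • m) = σ r • e m)

/-- Transport of dual modules along semilinear equivalences. -/
def dualSemi : Module.Dual R M ≃+ Module.Dual S N where
  toFun ψ :=
    { toFun := fun n => σ (ψ (e.symm n))
      map_add' := fun x y => by rw [map_add, map_add, map_add]
      map_smul' := fun s n => by
        have h1 : e.symm (s • n) = σ.symm s • e.symm n := by
          rw [AddEquiv.symm_apply_eq, he, RingEquiv.apply_symm_apply, AddEquiv.apply_symm_apply]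
        rw [h1, map_smul, smul_eq_mul, map_mul, RingEquiv.apply_symm_apply, RingHom.id_apply,
          smul_eq_mul] }
  invFun χ :=
    { toFun := fun m => σ.symm (χ (e m))
      map_add' := fun x y => by rw [map_add, map_add, map_add]
      map_smul' := fun r m => by
        rw [he, map_smul, smul_eq_mul, map_mul, RingEquiv.symm_apply_apply, RingHom.id_apply,
          smul_eq_mul] }
  left_inv ψ := by
    ext m
    simp
  right_inv χ := by
    ext n
    simp
  map_add' ψ ψ' := by
    ext n
    simp

theorem dualSemi_apply (ψ : Module.Dual R M) (n : N) :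
    dualSemi σ e he ψ n = σ (ψ (e.symm n)) := rfl

theorem dualSemi_symm_apply (χ : Module.Dual S N) (m : M) :
    (dualSemi σ e he).symm χ m = σ.symm (χ (e m)) := rfl

theorem dualSemi_smul (r : R) (ψ : Module.Dual R M) :
    dualSemi σ e he (r • ψ) = σ r • dualSemi σ e he ψ := by
  ext n
  simp [dualSemi_apply]

include he in
/-- Reflexivity is invariant under semilinear equivalences over ring isomorphisms. -/
theorem isReflexive_of_semilinear [Module.IsReflexive R M] : Module.IsReflexive S N := by
  constructor
  let D := dualSemi σ e he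
  let DD := dualSemi σ D (dualSemi_smul σ e he)
  have key : ⇑(Module.Dual.eval S N) = DD ∘ (Module.Dual.eval R M) ∘ e.symm := by
    ext n χ
    simp only [Function.comp_apply, Module.Dual.eval_apply]
    change χ n = σ (Module.Dual.eval R M (e.symm n) ((dualSemi σ e he).symm χ))
    rw [Module.Dual.eval_apply, dualSemi_symm_apply, RingEquiv.apply_symm_apply,
      AddEquiv.apply_symm_apply]
  rw [key]
  exact DD.bijective.comp ((Module.bijective_dual_eval R M).comp e.symm.bijective)

end semilinear

section restrict

variable {X Y : Scheme.{u}} (f : X ⟶ Y) [IsOpenImmersion f]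

theorem isReflexive_restrict_iff (M : Y.Modules) (x : X) :
    Module.IsReflexive (X.presheaf.stalk x) ((M.restrict f).presheaf.stalk x) ↔
      Module.IsReflexive (Y.presheaf.stalk (f x)) (M.presheaf.stalk (f x)) := by
  constructor
  · intro h
    exact isReflexive_of_semilinear (Groth.Agent.Dcoh.StalkRestrict.stalkEquiv f x).symm
      (Groth.Agent.Dcoh.StalkRestrict.ρ f M x) (Groth.Agent.Dcoh.StalkRestrict.ρ_smul' f M x)
  · intro h
    exact isReflexive_of_semilinear (Groth.Agent.Dcoh.StalkRestrict.stalkEquiv f x)
      (Groth.Agent.Dcoh.StalkRestrict.ρ f M x).symm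
      (Groth.Agent.Dcoh.StalkRestrict.ρ_symm_smul f M x)

theorem isReflexive_stalk_of_iso {M N : X.Modules} (e : M ≅ N) (x : X)
    (h : Module.IsReflexive (X.presheaf.stalk x) (M.presheaf.stalk x)) :
    Module.IsReflexive (X.presheaf.stalk x) (N.presheaf.stalk x) :=
  Module.equiv (Groth.Agent.CycB.StalkExact.stalkLinEquiv e x)

end restrict

section unit

variable {X : Scheme.{u}}

/-- The unit of the restriction adjunction is an isomorphism iff sections extend uniquely. -/
theorem isIso_unit_iff (F : X.Modules) (U : X.Opens) :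
    IsIso ((Scheme.Modules.restrictAdjunction U.ι).unit.app F) ↔
      ∀ V : X.Opens, Function.Bijective (res F (inf_le_left : V ⊓ U ≤ V)) := by
  rw [Scheme.Modules.Hom.isIso_iff_isIso_app]
  refine forall_congr' (fun V => ?_)
  rw [Scheme.Modules.restrictAdjunction_unit_app_app, ConcreteCategory.isIso_iff_bijective]
  have hle : U.ι ''ᵁ U.ι ⁻¹ᵁ V ≤ V := U.ι.image_preimage_le V
  have heq : V ⊓ U = U.ι ''ᵁ U.ι ⁻¹ᵁ V := by
    rw [Scheme.Hom.image_preimage_eq_opensRange_inf, Scheme.Opens.opensRange_ι, inf_comm]
  have h1 : res F hle = (res F heq.ge).comp (res F (inf_le_left : V ⊓ U ≤ V)) := by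
    ext m
    simp [res_res]
  have h2 := res_injective_of_eq F heq.ge heq
  change Function.Bijective (res F hle) ↔ _
  rw [h1]
  constructor
  · intro h
    exact (Function.Bijective.of_comp_iff' h2 _).mp h
  · intro h
    exact h2.comp h

end unit

end Groth.Agent.Divis.ReflexSheaf
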