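import Groth.Agent.Divis.CartierBasic
import Groth.Agent.CycB.LocQuot
import Mathlib.RingTheory.Ideal.Height

/-!
# Stalk ideals of integral closed subschemes, height of primes of local rings

* `isPrime_stalkIdeal`: if the closed subscheme of `I` is integral, the stalk ideals at points of the support
  are prime.
* `height_eq`: the height of a prime of `O_{X,x}` is the dimension of the local ring at the corresponding point.
* `ptOf_stalkIdeal`: the point corresponding to the prime `I_x` is the generic point of the closed subscheme.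
-/

set_option autoImplicit false
universe u

open CategoryTheory CategoryTheory.Limits AlgebraicGeometry TopologicalSpace

namespace Groth.Agent.Divis.StalkPrime

open Groth.Agent.Divis.CartierBasic Groth.Agent.CycB.LocQuot

variable {X : Scheme.{u}}

theorem isPrime_ideal (I : X.IdealSheafData) [IsIntegral I.subscheme] (U : X.affineOpens) (x : X)
    (hxU : x ∈ U.1) (hx : x ∈ I.support) : (I.ideal U).IsPrime := by
  rw [← I.ker_subschemeι_app U]
  have hx' : x ∈ Set.range I.subschemeι := by rw [I.range_subschemeι]; exact hx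
  obtain ⟨z, hz⟩ := hx'
  have : Nonempty (I.subschemeι ⁻¹ᵁ U.1).toScheme := ⟨⟨z, by
    change I.subschemeι z ∈ U.1
    rw [hz]; exact hxU⟩⟩
  exact RingHom.ker_isPrime _

theorem isPrime_stalkIdeal (I : X.IdealSheafData) [IsIntegral I.subscheme] {x : X}
    (hx : x ∈ I.support) : (stalkIdeal I x).IsPrime := by
  obtain ⟨U, hxU⟩ := exists_affine x
  have h1 := isPrime_ideal I U x hxU hx
  have h2 := (mem_support_iff_stalkIdeal_le I x).1 hx
  rw [stalkIdeal_eq I U hxU] at h2 ⊢
  let := X.presheaf.algebra_section_stalk (⟨x, hxU⟩ : U.1)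
  have := U.2.isLocalization_stalk ⟨x, hxU⟩
  refine IsLocalization.isPrime_of_isPrime_disjoint (U.2.primeIdealOf ⟨x, hxU⟩).asIdeal.primeCompl
    (X.presheaf.stalk x) _ h1 ?_
  rw [Set.disjoint_left]
  intro a ha ha'
  have h3 : IsUnit (X.presheaf.germ U.1 x hxU a) :=
    IsLocalization.map_units (X.presheaf.stalk x) (⟨a, ha⟩ : (U.2.primeIdealOf ⟨x, hxU⟩).asIdeal.primeCompl)
  have h4 := h2 (Ideal.mem_map_of_mem _ ha')
  exact (IsLocalRing.mem_maximalIdeal _).1 h4 h3

/-- the height of a prime of `O_{X,x}` is the dimension of the local ring at the corresponding point -/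
theorem height_eq {x : X} (q : PrimeSpectrum (X.presheaf.stalk x)) :
    ringKrullDim (X.presheaf.stalk (ptOf q)) = q.asIdeal.height := by
  let := (X.presheaf.stalkSpecializes (ptOf_specializes q)).hom.toAlgebra
  have h := isLocalization_stalkSpecializes (ptOf_specializes q)
  have h1 := IsLocalization.AtPrime.ringKrullDim_eq_height
    (RingHom.ker (Cyc.specMap x (ptOf q) (ptOf_specializes q))) (X.presheaf.stalk (ptOf q))
  rw [h1, ← primeOf_asIdeal, primeOf_ptOf]

/-- the point of the prime `I_x` is the generic point -/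
theorem ptOf_stalkIdeal (I : X.IdealSheafData) [IsIntegral I.subscheme] {x : X}
    (hx : x ∈ I.support) :
    ptOf ⟨stalkIdeal I x, isPrime_stalkIdeal I hx⟩ = I.subschemeι (genericPoint I.subscheme) := by
  have key : ∀ y ∈ I.support, I.subschemeι (genericPoint I.subscheme) ⤳ y := by
    intro y hy
    have hy' : y ∈ Set.range I.subschemeι := by rw [I.range_subschemeι]; exact hy
    obtain ⟨z, rfl⟩ := hy'
    exact (genericPoint_specializes z).map I.subschemeι.continuous
  have h1 := key x hx
  have h2 : ptOf ⟨stalkIdeal I x, isPrime_stalkIdeal I hx⟩ ∈ I.support := by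
    rw [ptOf, fromSpecStalk_mem_support_iff]
  have h3 := key _ h2
  have h4 : ptOf (primeOf h1) ∈ I.support := by
    rw [ptOf_primeOf]
    have : I.subschemeι (genericPoint I.subscheme) ∈ Set.range I.subschemeι := ⟨_, rfl⟩
    rw [I.range_subschemeι] at this
    exact this
  rw [ptOf, fromSpecStalk_mem_support_iff] at h4
  have h5 : ptOf ⟨stalkIdeal I x, isPrime_stalkIdeal I hx⟩ ⤳ ptOf (primeOf h1) := by
    rw [ptOf_specializes_iff]
    exact h4
  rw [ptOf_primeOf] at h5
  exact (h5.antisymm h3).eq

end Groth.Agent.Divis.StalkPrime
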