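import Mathlib.RingTheory.Ideal.UFD
import Mathlib.RingTheory.Ideal.Height
import Mathlib.RingTheory.Ideal.KrullsHeightTheorem
import Mathlib.GroupTheory.MonoidLocalization.UniqueFactorization

/-!
# Colon ideals in unique factorisation domains

* `isPrincipal_colon`: in a UFD an ideal of the form `((g) : b)`, `g ≠ 0`, is principal.
* `isPrincipal_of_atPrime_colon`: `A` a Noetherian UFD, `q` a prime; if `q A_q = ((g) : b)` in `A_q`, `g ≠ 0`, then
  `q` is principal.
-/

set_option autoImplicit false

namespace Groth.Agent.Divis.UfdColon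

theorem isPrincipal_colon {R : Type*} [CommRing R] [IsDomain R] [UniqueFactorizationMonoid R]
    (g b : R) (hg : g ≠ 0) (p : Ideal R) (h : ∀ r, r ∈ p ↔ r * b ∈ Ideal.span {g}) : p.IsPrincipal := by
  obtain ⟨g', b', c, hrel, hg', hb'⟩ := UniqueFactorizationMonoid.exists_reduced_factors g hg b
  have hc : c ≠ 0 := fun h => hg (by rw [← hg', h, zero_mul])
  refine ⟨g', le_antisymm ?_ ?_⟩
  · intro r hr
    rw [h, Ideal.mem_span_singleton, ← hg', ← hb'] at hr
    have h1 : c * g' ∣ c * (r * b') := by rw [mul_left_comm c r]; exact hr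
    have h2 : g' ∣ r * b' := (mul_dvd_mul_iff_left hc).1 h1
    exact Ideal.mem_span_singleton.2 (hrel.dvd_of_dvd_mul_right h2)
  · rw [Submodule.span_singleton_le_iff_mem, h, Ideal.mem_span_singleton, ← hg', ← hb']
    exact ⟨b', by ring⟩

theorem isPrincipal_of_atPrime_colon {A : Type*} [CommRing A] [IsDomain A] [UniqueFactorizationMonoid A]
    [IsNoetherianRing A] (q : Ideal A) [q.IsPrime] (B : Type*) [CommRing B] [Algebra A B]
    [IsLocalization.AtPrime B q] [IsLocalRing B] (g b : B) (hg : g ∈ nonZeroDivisors B)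
    (h : ∀ s, s ∈ IsLocalRing.maximalIdeal B ↔ s * b ∈ Ideal.span {g}) : q.IsPrincipal := by
  have hB : IsDomain B := IsLocalization.isDomain_of_atPrime B q
  have hBU : UniqueFactorizationMonoid B := UniqueFactorizationMonoid.of_isLocalization q.primeCompl B
  have hBN : IsNoetherianRing B := IsLocalization.isNoetherianRing q.primeCompl B ‹_›
  have h1 : (IsLocalRing.maximalIdeal B).IsPrincipal :=
    isPrincipal_colon g b (nonZeroDivisors.ne_zero hg) _ h
  have h2 : (IsLocalRing.maximalIdeal B).height ≤ 1 :=
    Ideal.height_le_one_of_isPrincipal_of_mem_minimalPrimes (IsLocalRing.maximalIdeal B) _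
      (by rw [Ideal.minimalPrimes_eq_subsingleton_self]; rfl)
  have h3 : (q.height : WithBot ℕ∞) = (IsLocalRing.maximalIdeal B).height := by
    rw [← IsLocalization.AtPrime.ringKrullDim_eq_height q B, IsLocalRing.maximalIdeal_height_eq_ringKrullDim]
  have h4 : q.height ≤ 1 := by
    have h5 : q.height = (IsLocalRing.maximalIdeal B).height := by exact_mod_cast h3
    rw [h5]; exact h2
  rcases h4.lt_or_eq with h5 | h5
  · have h6 : q.height = 0 := by
      exact Order.lt_one_iff.1 h5
    rw [Ideal.height_eq_zero_iff, IsDomain.minimalPrimes_eq_singleton_bot, Set.mem_singleton_iff] at h6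
    rw [h6]
    exact bot_isPrincipal
  · exact UniqueFactorizationMonoid.isPrincipal_of_height_eq_one h5

end Groth.Agent.Divis.UfdColon
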