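import Mathlib.RingTheory.Ideal.UFD
import Mathlib.RingTheory.Ideal.AssociatedPrime.Basic

/-!
# Principal ideals in Noetherian domains via associated primes

* `isPrincipal_of_assoc_principal`: in a Noetherian domain, a nonzero ideal `I` such that every prime of the form
  `(I : a)` is principal, is principal.
-/

set_option autoImplicit false

namespace Groth.Agent.Divis.UfdIdeal

/-- In a Noetherian domain, a nonzero ideal all of whose associated primes `(I : a)` are principal is principal. -/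
theorem isPrincipal_of_assoc_principal {A : Type*} [CommRing A] [IsDomain A] [IsNoetherianRing A]
    (I : Ideal A) (hI : I ≠ ⊥)
    (h : ∀ (p : Ideal A), p.IsPrime → ∀ a : A, (∀ r, r ∈ p ↔ r * a ∈ I) → p.IsPrincipal) :
    I.IsPrincipal := by
  obtain ⟨x, hxI, hx0⟩ := (Submodule.ne_bot_iff I).1 hI
  let T : Set (Ideal A) := {J | ∃ f y : A, I ≤ Ideal.span {f} ∧ x = f * y ∧ J = Ideal.span {y}}
  have hT : T.Nonempty := ⟨Ideal.span {x}, 1, x, by simp, by simp, rfl⟩
  obtain ⟨K, ⟨f, y, hIf, hxy, rfl⟩, hmax⟩ := set_has_maximal_iff_noetherian.mpr ‹_› T hT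
  have hf0 : f ≠ 0 := fun hf => hx0 (by rw [hxy, hf, zero_mul])
  have hy0 : y ≠ 0 := fun hf => hx0 (by rw [hxy, hf, mul_zero])
  -- the quotient ideal
  let J : Ideal A := Submodule.comap (LinearMap.mulLeft A f) I
  have hJ : ∀ j, j ∈ J ↔ f * j ∈ I := fun j => Iff.rfl
  by_cases hJt : J = ⊤
  · refine ⟨f, le_antisymm hIf ?_⟩
    rw [Submodule.span_singleton_le_iff_mem]
    have : (1 : A) ∈ J := by rw [hJt]; trivial
    simpa [hJ] using this
  · exfalso
    obtain ⟨p, hp, -⟩ := exists_le_isAssociatedPrime_of_isNoetherianRing A (M := A ⧸ J)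
      (Ideal.Quotient.mk J 1) (by
        rw [Ne, Ideal.Quotient.eq_zero_iff_mem]
        exact fun h1 => hJt ((Ideal.eq_top_iff_one _).2 h1))
    rw [isAssociatedPrime_iff] at hp
    obtain ⟨hp, a', ha'⟩ := hp
    obtain ⟨a, rfl⟩ := Ideal.Quotient.mk_surjective a'
    have hpa : ∀ r, r ∈ p ↔ r * a ∈ J := by
      intro r
      rw [ha', Submodule.mem_colon_singleton, Submodule.mem_bot, ← Ideal.Quotient.eq_zero_iff_mem,
        Algebra.smul_def, map_mul]
      rfl
    obtain ⟨π, hπ⟩ := h p hp (f * a) (fun r => by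
      rw [hpa, hJ, mul_left_comm])
    have hπ' : ∀ r, r ∈ p ↔ π ∣ r := fun r => by
      rw [hπ]; exact Ideal.mem_span_singleton
    have hJp : ∀ j ∈ J, π ∣ j := fun j hj => by
      rw [← hπ', hpa]
      exact J.mul_mem_right _ hj
    -- I ≤ (f π)
    have h1 : I ≤ Ideal.span {f * π} := by
      intro i hi
      obtain ⟨j, rfl⟩ := Ideal.mem_span_singleton.1 (hIf hi)
      obtain ⟨k, rfl⟩ := hJp j hi
      exact Ideal.mem_span_singleton.2 ⟨k, by ring⟩
    obtain ⟨y', rfl⟩ := hJp y (by rw [hJ, ← hxy]; exact hxI)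
    have h2 : Ideal.span {y'} ∈ T := ⟨f * π, y', h1, by rw [hxy]; ring, rfl⟩
    have h3 : ¬ (Ideal.span {π * y'} < Ideal.span {y'}) := hmax _ h2
    have h4 : Ideal.span {π * y'} ≤ Ideal.span {y'} :=
      Ideal.span_singleton_le_span_singleton.2 ⟨π, by ring⟩
    have h5 : Ideal.span {y'} ≤ Ideal.span {π * y'} := by
      by_contra hcon
      exact h3 (lt_of_le_not_ge h4 hcon)
    obtain ⟨c, hc⟩ := Ideal.span_singleton_le_span_singleton.1 h5
    have hy'0 : y' ≠ 0 := fun h => hy0 (by rw [h, mul_zero])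
    have h6 : π * c = 1 := by
      have : y' * (π * c) = y' * 1 := by rw [mul_one]; conv_rhs => rw [hc]
                                         ring
      exact mul_left_cancel₀ hy'0 this
    exact hp.ne_top ((Ideal.eq_top_iff_one _).2 ((hπ' 1).2 ⟨c, h6.symm⟩))

end Groth.Agent.Divis.UfdIdeal
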