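import Groth.Agent.Divis.WeakAss
import Groth.Agent.Divis.WeakAssNoeth
import Groth.Agent.Ega1.QcqsPush
import Mathlib.RingTheory.QuasiFinite.Basic
import Mathlib.RingTheory.Ideal.GoingUp
import Mathlib.AlgebraicGeometry.Morphisms.Finite
import Mathlib.AlgebraicGeometry.Morphisms.Affine

/-!
# Weakly associated points of direct images
-/

set_option autoImplicit false
universe u
open CategoryTheory CategoryTheory.Limits AlgebraicGeometry TopologicalSpace Opposite
open Groth.Agent.Fdesc.QCohStalk Groth.Agent.Divis.WeakAss Groth.Agent.Divis.WeakAssNoeth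

namespace Groth.Agent.Divis.WeakAssPush

section Algebra

variable {A B : Type*} [CommRing A] [CommRing B] [Algebra A B]

/-- Key algebra lemma (Stacks 05DZ, finite case), ideal form. -/
theorem exists_mem_of_finite [Module.Finite A B] (J q : Ideal B) (hq : q ∈ J.minimalPrimes) :
    ∃ e ∉ q, ∀ x ∈ q.comap (algebraMap A B), ∃ h ∉ q.comap (algebraMap A B), ∃ k : ℕ,
      algebraMap A B (h * x ^ k) * e ∈ J := by
  have hqp : q.IsPrime := hq.1.1
  set p := q.comap (algebraMap A B) with hp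
  have hpp : p.IsPrime := inferInstance
  have hfin := Algebra.QuasiFinite.finite_primesOver (R := A) (S := B) p
  have hfin' : {m ∈ p.primesOver B | m ≠ q}.Finite := hfin.subset (fun _ h => h.1)
  -- for each other prime over `p` there is an element
  have hex : ∀ m ∈ {m ∈ p.primesOver B | m ≠ q}, ∃ g ∉ q, ∃ s ∉ m, s * g ∈ J := by
    rintro m ⟨⟨hm, hmo⟩, hmq⟩
    have hnle : ¬ q ≤ m := by
      intro hle
      have hlt : q < m := lt_of_le_of_ne hle (Ne.symm hmq)
      have h1 := Ideal.IsIntegral.comap_lt_comap (R := A) hlt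
      have h2 : p = m.comap (algebraMap A B) := hmo.over
      rw [← hp, ← h2] at h1
      exact lt_irrefl _ h1
    obtain ⟨b, hbq, hbm⟩ := Set.not_subset.mp hnle
    obtain ⟨g, hg, k, hgk⟩ := exists_mul_pow_mem hq hbq
    refine ⟨g, hg, b ^ k, fun h => hbm (hm.mem_of_pow_mem k h), ?_⟩
    rwa [mul_comm]
  choose! g hg s hs hsg using hex
  refine ⟨∏ m ∈ hfin'.toFinset, g m, ?_, ?_⟩
  · intro h
    obtain ⟨m, hm, hmq⟩ := hqp.prod_mem_iff.mp h
    exact hg m (hfin'.mem_toFinset.mp hm) hmq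
  · intro x hx
    obtain ⟨g', hg', k, hgk⟩ := exists_mul_pow_mem hq (show algebraMap A B x ∈ q from hx)
    set e := ∏ m ∈ hfin'.toFinset, g m with he
    let I' : Ideal B := Submodule.colon J {algebraMap A B x ^ k * e}
    have hI' : ∀ b, b ∈ I' ↔ b * (algebraMap A B x ^ k * e) ∈ J := fun b => by
      rw [Submodule.mem_colon_singleton, smul_eq_mul]
    have hnot : ¬ I'.comap (algebraMap A B) ≤ p := by
      intro hle
      obtain ⟨Q, hQI, hQ, hQp⟩ := Ideal.exists_ideal_over_prime_of_isIntegral p I' hle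
      by_cases hQq : Q = q
      · subst hQq
        apply hg'
        apply hQI
        rw [hI']
        have := J.mul_mem_right e hgk
        convert this using 1
        ring
      · have hQm : Q ∈ {m ∈ p.primesOver B | m ≠ q} := ⟨⟨hQ, ⟨hQp.symm⟩⟩, hQq⟩
        apply hs Q hQm
        apply hQI
        rw [hI']
        obtain ⟨u, hu⟩ : g Q ∣ e := Finset.dvd_prod_of_mem g (hfin'.mem_toFinset.mpr hQm)
        have := J.mul_mem_left (algebraMap A B x ^ k * u) (hsg Q hQm)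
        rw [hu]
        convert this using 1
        ring
    obtain ⟨h, hh, hhp⟩ := Set.not_subset.mp hnot
    refine ⟨h, hhp, k, ?_⟩
    have := (hI' _).mp hh
    rw [map_mul, map_pow]
    convert this using 1
    ring

variable {N : Type*} [AddCommGroup N] [Module A N] [Module B N] [IsScalarTower A B N]

/-- For a finite ring map, contractions of weakly associated primes are weakly associated. -/
theorem exists_minimalPrimes_of_finite [Module.Finite A B] (t : N) (q : Ideal B)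
    (hq : q ∈ (ann B t).minimalPrimes) :
    ∃ n : N, q.comap (algebraMap A B) ∈ (ann A n).minimalPrimes := by
  have hqp : q.IsPrime := hq.1.1
  obtain ⟨e, he, hx⟩ := exists_mem_of_finite (A := A) (ann B t) q hq
  refine ⟨e • t, mem_minimalPrimes_of_forall (hp := inferInstance) ?_ ?_⟩
  · intro a ha
    rw [mem_ann, ← algebraMap_smul B, smul_smul] at ha
    rcases hqp.mem_or_mem (hq.1.2 (mem_ann.mpr ha)) with h | h
    · exact h
    · exact absurd h he
  · intro x hxq
    obtain ⟨h, hh, k, hk⟩ := hx x hxq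
    refine ⟨h, hh, k, ?_⟩
    rw [mem_ann, ← algebraMap_smul B, smul_smul]
    exact mem_ann.mp hk

end Algebra

section Scheme

variable {X S : Scheme.{u}} (f : X ⟶ S) (F : X.Modules)

theorem mem_ann_push_iff {U : S.Opens} (t : Γ(F, f ⁻¹ᵁ U)) (a : Γ(S, U)) :
    a ∈ ann Γ(S, U) (show Γ((Scheme.Modules.pushforward f).obj F, U) from t) ↔
      f.app U a ∈ ann Γ(X, f ⁻¹ᵁ U) t := by
  rw [mem_ann, mem_ann]
  rfl

theorem ann_push {U : S.Opens} (t : Γ(F, f ⁻¹ᵁ U)) :
    ann Γ(S, U) (show Γ((Scheme.Modules.pushforward f).obj F, U) from t) =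
      (ann Γ(X, f ⁻¹ᵁ U) t).comap (f.app U).hom := by
  ext a
  exact mem_ann_push_iff f F t a

theorem comap_primeIdealOf {U : S.Opens} (hU : IsAffineOpen U) (hV : IsAffineOpen (f ⁻¹ᵁ U)) {x : X}
    (hx : x ∈ f ⁻¹ᵁ U) :
    (hV.primeIdealOf ⟨x, hx⟩).asIdeal.comap (f.app U).hom = (hU.primeIdealOf ⟨f x, hx⟩).asIdeal := by
  have h := IsAffineOpen.comap_primeIdealOf_appLE U hU (f ⁻¹ᵁ U) hV le_rfl hx
  rw [Scheme.Hom.appLE_eq_app] at h
  exact congr_arg PrimeSpectrum.asIdeal h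

variable {F} (hF : Coh.IsQCoh F)

include hF in
/-- Stacks 05EX. -/
theorem exists_isWeakAssPoint [IsAffineHom f] (s : S)
    (hs : Curv2.IsWeakAssPoint ((Scheme.Modules.pushforward f).obj F) s) :
    ∃ x : X, f x = s ∧ Curv2.IsWeakAssPoint F x := by
  have hq : Coh.IsQCoh ((Scheme.Modules.pushforward f).obj F) :=
    Groth.Agent.Ega1.QcqsPush.isQCoh_pushforward f F hF
  obtain ⟨_, ⟨U, hU, rfl⟩, hsU, -⟩ :=
    S.isBasis_affineOpens.exists_subset_of_mem_open (Set.mem_univ s) isOpen_univ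
  have hU' : IsAffineOpen U := hU
  have hsU' : s ∈ (U : S.Opens) := hsU
  have hV : IsAffineOpen (f ⁻¹ᵁ U) := hU'.preimage f
  rw [isWeakAssPoint_iff_minimalPrimes hq hU' hsU'] at hs
  obtain ⟨t, ht⟩ := hs
  rw [ann_push f F t] at ht
  obtain ⟨q, hq1, hq2⟩ := Ideal.exists_minimalPrimes_comap_eq _ _ ht
  obtain ⟨x, hx, hxq⟩ := exists_point hV ⟨q, hq1.1.1⟩
  have hxq' : (hV.primeIdealOf ⟨x, hx⟩).asIdeal = q := congr_arg PrimeSpectrum.asIdeal hxq
  refine ⟨x, ?_, ?_⟩
  · have h1 := comap_primeIdealOf f hU' hV hx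
    rw [hxq', hq2] at h1
    have h2 : hU'.primeIdealOf ⟨f x, hx⟩ = hU'.primeIdealOf ⟨s, hsU'⟩ := PrimeSpectrum.ext h1.symm
    have h3 := hU'.fromSpec_primeIdealOf ⟨f x, hx⟩
    rw [h2, hU'.fromSpec_primeIdealOf ⟨s, hsU'⟩] at h3
    exact h3.symm
  · rw [isWeakAssPoint_iff_minimalPrimes hF hV hx]
    exact ⟨t, hxq' ▸ hq1⟩

include hF in
/-- Stacks 05EY (one inclusion). -/
theorem isWeakAssPoint_of_noetherian [IsAffineHom f] [IsLocallyNoetherian X] (x : X)
    (hx : Curv2.IsWeakAssPoint F x) :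
    Curv2.IsWeakAssPoint ((Scheme.Modules.pushforward f).obj F) (f x) := by
  have hq : Coh.IsQCoh ((Scheme.Modules.pushforward f).obj F) :=
    Groth.Agent.Ega1.QcqsPush.isQCoh_pushforward f F hF
  obtain ⟨_, ⟨U, hU, rfl⟩, hsU, -⟩ :=
    S.isBasis_affineOpens.exists_subset_of_mem_open (Set.mem_univ (f x)) isOpen_univ
  have hU' : IsAffineOpen U := hU
  have hsU' : f x ∈ (U : S.Opens) := hsU
  have hV : IsAffineOpen (f ⁻¹ᵁ U) := hU'.preimage f
  have : IsNoetherianRing Γ(X, f ⁻¹ᵁ U) := IsLocallyNoetherian.component_noetherian ⟨_, hV⟩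
  obtain ⟨t, ht⟩ := exists_eq_ann hF hV (x := x) hsU' hx
  rw [isWeakAssPoint_iff_minimalPrimes hq hU' hsU']
  refine ⟨t, ?_⟩
  rw [ann_push f F t, ← ht, comap_primeIdealOf f hU' hV hsU',
    Ideal.minimalPrimes_eq_subsingleton_self]
  rfl

include hF in
/-- Stacks 05EZ (one inclusion). -/
theorem isWeakAssPoint_of_finite [IsFinite f] (x : X) (hx : Curv2.IsWeakAssPoint F x) :
    Curv2.IsWeakAssPoint ((Scheme.Modules.pushforward f).obj F) (f x) := by
  have hq : Coh.IsQCoh ((Scheme.Modules.pushforward f).obj F) :=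
    Groth.Agent.Ega1.QcqsPush.isQCoh_pushforward f F hF
  obtain ⟨_, ⟨U, hU, rfl⟩, hsU, -⟩ :=
    S.isBasis_affineOpens.exists_subset_of_mem_open (Set.mem_univ (f x)) isOpen_univ
  have hU' : IsAffineOpen U := hU
  have hsU' : f x ∈ (U : S.Opens) := hsU
  have hV : IsAffineOpen (f ⁻¹ᵁ U) := hU'.preimage f
  obtain ⟨t, ht⟩ := (isWeakAssPoint_iff_minimalPrimes hF hV (x := x) hsU').mp hx
  have hfin : (f.app U).hom.Finite := IsFinite.finite_app f U hU'
  letI : Algebra Γ(S, U) Γ(X, f ⁻¹ᵁ U) := (f.app U).hom.toAlgebra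
  have : Module.Finite Γ(S, U) Γ(X, f ⁻¹ᵁ U) := hfin
  letI : Module Γ(S, U) Γ(F, f ⁻¹ᵁ U) := Module.compHom _ (f.app U).hom
  have : IsScalarTower Γ(S, U) Γ(X, f ⁻¹ᵁ U) Γ(F, f ⁻¹ᵁ U) := .of_algebraMap_smul fun _ _ => rfl
  obtain ⟨n, hn⟩ := exists_minimalPrimes_of_finite (A := Γ(S, U)) t _ ht
  rw [isWeakAssPoint_iff_minimalPrimes hq hU' hsU']
  refine ⟨n, ?_⟩
  have h1 : (hU'.primeIdealOf ⟨f x, hsU'⟩).asIdeal =
    (hV.primeIdealOf ⟨x, hsU'⟩).asIdeal.comap (algebraMap Γ(S, U) Γ(X, f ⁻¹ᵁ U)) :=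
    (comap_primeIdealOf f hU' hV hsU').symm
  rw [h1]
  exact hn

end Scheme

end Groth.Agent.Divis.WeakAssPush
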