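import Groth.Agent.Divis.WeakAssPush
import Mathlib.AlgebraicGeometry.Morphisms.QuasiSeparated

/-!
# Weakly associated points of direct images outside the image
-/

set_option autoImplicit false
universe u
open CategoryTheory CategoryTheory.Limits AlgebraicGeometry TopologicalSpace Opposite
open Groth.Agent.Fdesc.QCohStalk Groth.Agent.Divis.WeakAss

namespace Groth.Agent.Divis.WeakAssQc

variable {X S : Scheme.{u}} (f : X ⟶ S) {F : X.Modules}

/-- A quasi-compact open is covered by finitely many affine opens contained in it. -/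
theorem exists_finite_affine_cover (X : Scheme.{u}) {W : X.Opens} (hW : IsCompact (W : Set X)) :
    ∃ (t : Finset X.affineOpens), (∀ V ∈ t, V.1 ≤ W) ∧ ∀ x ∈ W, ∃ V ∈ t, x ∈ V.1 := by
  classical
  have hex : ∀ x : X, ∃ V : X.affineOpens, x ∈ W → (x ∈ V.1 ∧ V.1 ≤ W) := by
    intro x
    by_cases hx : x ∈ W
    · obtain ⟨_, ⟨V, hV, rfl⟩, hxV, hVW⟩ :=
        X.isBasis_affineOpens.exists_subset_of_mem_open (show x ∈ (W : Set X) from hx) W.isOpen
      exact ⟨⟨V, hV⟩, fun _ => ⟨hxV, hVW⟩⟩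
    · obtain ⟨_, ⟨V, hV, rfl⟩, hxV, -⟩ :=
        X.isBasis_affineOpens.exists_subset_of_mem_open (Set.mem_univ x) isOpen_univ
      exact ⟨⟨V, hV⟩, fun h => absurd h hx⟩
  choose V hV using hex
  obtain ⟨t, ht, hcov⟩ := hW.elim_nhds_subcover (fun x => ((V x).1 : Set X))
    (fun x hx => (V x).1.isOpen.mem_nhds (hV x hx).1)
  refine ⟨t.image V, ?_, ?_⟩
  · intro A hA
    obtain ⟨x, hx, rfl⟩ := Finset.mem_image.mp hA
    exact (hV x (ht x hx)).2
  · intro x hx
    obtain ⟨y, hy, hxy⟩ := Set.mem_iUnion₂.mp (hcov hx)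
    exact ⟨V y, Finset.mem_image_of_mem _ hy, hxy⟩

/-- A section of a module over `W` killed on every member of an affine cover is zero. -/
theorem eq_zero_of_cover (F : X.Modules) {W : X.Opens} (t : Finset X.affineOpens)
    (htW : ∀ V ∈ t, V.1 ≤ W) (hcov : ∀ x ∈ W, ∃ V ∈ t, x ∈ V.1) (s : Γ(F, W))
    (hs : ∀ V (hV : V ∈ t), F.presheaf.map (homOfLE (htW V hV)).op s = 0) : s = 0 := by
  refine TopCat.Presheaf.IsSheaf.section_ext F.isSheaf (U := op W) (s := s) (t := 0) ?_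
  intro x hx
  obtain ⟨V, hV, hxV⟩ := hcov x hx
  refine ⟨V.1, htW V hV, hxV, ?_⟩
  rw [hs V hV, map_zero]

variable (hF : Coh.IsQCoh F)

/-- Stacks 0AVN: a point outside the image is not weakly associated to the direct image. -/
theorem not_isWeakAssPoint [QuasiCompact f] [QuasiSeparated f] (hF : Coh.IsQCoh F) (s : S)
    (hs : s ∉ Set.range f) :
    ¬ Curv2.IsWeakAssPoint ((Scheme.Modules.pushforward f).obj F) s := by
  intro hw
  have hq : Coh.IsQCoh ((Scheme.Modules.pushforward f).obj F) :=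
    Groth.Agent.Ega1.QcqsPush.isQCoh_pushforward f F hF
  obtain ⟨_, ⟨U, hU, rfl⟩, hsU, -⟩ :=
    S.isBasis_affineOpens.exists_subset_of_mem_open (Set.mem_univ s) isOpen_univ
  have hU' : IsAffineOpen U := hU
  have hsU' : s ∈ (U : S.Opens) := hsU
  obtain ⟨t, ht⟩ := (isWeakAssPoint_iff_minimalPrimes hq hU' hsU').mp hw
  set p := (hU'.primeIdealOf ⟨s, hsU'⟩).asIdeal with hp
  have hpp : p.IsPrime := (hU'.primeIdealOf ⟨s, hsU'⟩).isPrime
  have hW : IsCompact ((f ⁻¹ᵁ U : X.Opens) : Set X) :=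
    QuasiCompact.isCompact_preimage (f := f) U.1 U.2 hU'.isCompact
  obtain ⟨T, hTW, hTcov⟩ := exists_finite_affine_cover X hW
  let t' : Γ(F, f ⁻¹ᵁ U) := t
  -- on each member of the cover, the section is killed by a function outside the prime
  have hkill : ∀ V (hV : V ∈ T), ∃ h ∉ p, f.appLE U V.1 (hTW V hV) h •
      F.presheaf.map (homOfLE (hTW V hV)).op t' = 0 := by
    intro V hV
    by_contra! H
    let φ : Γ(S, U) →+* Γ(X, V.1) := (f.appLE U V.1 (hTW V hV)).hom
    let tV : Γ(F, V.1) := F.presheaf.map (homOfLE (hTW V hV)).op t'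
    let I := ann Γ(X, V.1) tV
    have hI : I.comap φ ≤ p := by
      intro h hh
      by_contra hhp
      exact H h hhp (mem_ann.mp hh)
    obtain ⟨Q, hIQ, hQ, hQp⟩ := Ideal.exists_ideal_comap_le_prime p I hI
    obtain ⟨x, hx, hxQ⟩ := exists_point V.2 ⟨Q, hQ⟩
    have hxQ' : (V.2.primeIdealOf ⟨x, hx⟩).asIdeal = Q := congr_arg PrimeSpectrum.asIdeal hxQ
    -- the contraction of `Q` is `p`
    have hQp' : Q.comap φ = p := by
      apply le_antisymm hQp
      intro a ha
      obtain ⟨g, hg, n, hgn⟩ := exists_mul_pow_mem ht ha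
      have h1 : φ (g * a ^ n) ∈ I := by
        rw [mem_ann]
        have h2 : (g * a ^ n) • t = 0 := mem_ann.mp hgn
        have h3 : f.app U (g * a ^ n) • t' = 0 := h2
        have h4 := congr(F.presheaf.map (homOfLE (hTW V hV)).op $h3)
        rw [map_smul', map_zero] at h4
        have h5 : X.presheaf.map (homOfLE (hTW V hV)).op (f.app U (g * a ^ n)) = φ (g * a ^ n) := rfl
        rw [h5] at h4
        exact h4
      have h2 := hIQ h1
      rw [map_mul, map_pow] at h2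
      rcases hQ.mem_or_mem h2 with h3 | h3
      · exact absurd (hQp h3) hg
      · exact hQ.mem_of_pow_mem n h3
    apply hs
    refine ⟨x, ?_⟩
    have h1 := IsAffineOpen.comap_primeIdealOf_appLE U hU' V.1 V.2 (hTW V hV) hx
    have h2 : (V.2.primeIdealOf ⟨x, hx⟩).asIdeal.comap φ = (hU'.primeIdealOf ⟨f x, hTW V hV hx⟩).asIdeal :=
      congr_arg PrimeSpectrum.asIdeal h1
    rw [hxQ', hQp'] at h2
    have h3 : hU'.primeIdealOf ⟨f x, hTW V hV hx⟩ = hU'.primeIdealOf ⟨s, hsU'⟩ := PrimeSpectrum.ext h2.symm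
    have h4 := hU'.fromSpec_primeIdealOf ⟨f x, hTW V hV hx⟩
    rw [h3, hU'.fromSpec_primeIdealOf ⟨s, hsU'⟩] at h4
    exact h4.symm
  choose! h hh hkill using hkill
  have hprod : (∏ V ∈ T, h V) • t = (0 : Γ((Scheme.Modules.pushforward f).obj F, U)) := by
    change f.app U (∏ V ∈ T, h V) • t' = 0
    refine eq_zero_of_cover F T hTW hTcov _ (fun V hV => ?_)
    rw [map_smul']
    obtain ⟨u, hu⟩ : h V ∣ ∏ V ∈ T, h V := Finset.dvd_prod_of_mem h hV
    have h5 : X.presheaf.map (homOfLE (hTW V hV)).op (f.app U (∏ V ∈ T, h V)) =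
      f.appLE U V.1 (hTW V hV) (∏ V ∈ T, h V) := rfl
    rw [h5, hu, mul_comm, map_mul, mul_smul, hkill V hV, smul_zero]
  have h1 : ∏ V ∈ T, h V ∈ p := ht.1.2 (mem_ann.mpr hprod)
  obtain ⟨V, hV, hVp⟩ := hpp.prod_mem_iff.mp h1
  exact hh V hV hVp

end Groth.Agent.Divis.WeakAssQc
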