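import Groth.Agent.Divis.WeakAss
import Mathlib.RingTheory.Ideal.AssociatedPrime.Basic

/-!
# Weakly associated points of `M^~` on `Spec A`
-/

set_option autoImplicit false
universe u
open CategoryTheory CategoryTheory.Limits AlgebraicGeometry TopologicalSpace Opposite
open Groth.Agent.Fdesc.QCohStalk Groth.Agent.Divis.WeakAss

namespace Groth.Agent.Divis.WeakAssSpec

section Algebra

variable {R : Type*} [CommRing R] {N : Type*} [AddCommGroup N] [Module R N]

/-- A finitely generated prime minimal over the annihilator of an element is associated. -/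
theorem mem_associatedPrimes_of_fg {p : Ideal R} (hfg : p.FG) {t : N}
    (hp : p ∈ (ann R t).minimalPrimes) : p ∈ associatedPrimes R N := by
  have hpp : p.IsPrime := hp.1.1
  obtain ⟨T, hT⟩ := hfg
  have hmem : ∀ a : T, a.1 ∈ p := fun a => hT ▸ Ideal.subset_span a.2
  choose g hg n hn using fun a : T => exists_mul_pow_mem hp (hmem a)
  refine ⟨hpp, (∏ a, g a) • t, le_antisymm ?_ ?_⟩
  · rw [← hT, Ideal.span_le]
    intro a ha
    refine ⟨n ⟨a, ha⟩, ?_⟩
    rw [Submodule.mem_colon_singleton, Submodule.mem_bot]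
    obtain ⟨u, hu⟩ : g ⟨a, ha⟩ ∣ ∏ a, g a := Finset.dvd_prod_of_mem g (Finset.mem_univ _)
    have h1 := mem_ann.mp (hn ⟨a, ha⟩)
    rw [hu, smul_smul]
    have : a ^ n ⟨a, ha⟩ * (g ⟨a, ha⟩ * u) = u * (g ⟨a, ha⟩ * a ^ n ⟨a, ha⟩) := by ring
    rw [this, mul_smul, h1, smul_zero]
  · rintro r ⟨k, hr⟩
    rw [Submodule.mem_colon_singleton, Submodule.mem_bot, smul_smul] at hr
    have h1 : r ^ k * ∏ a, g a ∈ p := hp.1.2 (mem_ann.mpr hr)
    rcases hpp.mem_or_mem h1 with h2 | h2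
    · exact hpp.mem_of_pow_mem k h2
    · obtain ⟨a, -, ha⟩ := hpp.prod_mem_iff.mp h2
      exact absurd ha (hg a)

end Algebra

variable {A : CommRingCat.{u}} (M : ModuleCat.{u} A)

theorem mem_primeIdealOf_top_iff (p : Spec A) (r : A) :
    (Scheme.ΓSpecIso A).inv r ∈ ((isAffineOpen_top (Spec A)).primeIdealOf ⟨p, trivial⟩).asIdeal ↔
      r ∈ p.asIdeal := by
  rw [← not_iff_not, ← mem_basicOpen_iff (isAffineOpen_top (Spec A)) p trivial]
  have h : (Spec A).basicOpen ((Scheme.ΓSpecIso A).inv r) = PrimeSpectrum.basicOpen r :=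
    (basicOpen_eq_of_affine r)
  rw [h]
  rfl

/-- Weakly associated points of `M^~`. -/
theorem isWeakAssPoint_tilde_iff (p : Spec A) :
    Curv2.IsWeakAssPoint (tilde M) p ↔ ∃ m : M, p.asIdeal ∈ (ann A m).minimalPrimes := by
  have hq : Coh.IsQCoh (tilde M) := inferInstanceAs (tilde M).IsQuasicoherent
  rw [isWeakAssPoint_iff_minimalPrimes hq (isAffineOpen_top (Spec A)) (x := p) trivial]
  have e := tilde.isoTop M
  let e' : M ≃ₗ[A] Γ(tilde M, (⊤ : (Spec A).Opens)) := e.toLinearEquiv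
  have hinv : ∀ a : Γ(Spec A, ⊤), ∃ r : A, (Scheme.ΓSpecIso A).inv r = a := fun a =>
    ⟨(Scheme.ΓSpecIso A).hom a, Iso.hom_inv_id_apply _ _⟩
  have hsm : ∀ (r : A) (t : Γ(tilde M, (⊤ : (Spec A).Opens))), r • t = (Scheme.ΓSpecIso A).inv r • t := by
    intro r t
    rw [Scheme.Modules.smul_Spec_def]
    have : (⊤ : (Spec A).Opens).leTop.op = 𝟙 _ := rfl
    rw [this, CategoryTheory.Functor.map_id]
    rfl
  have hann : ∀ (m : M) (r : A), (Scheme.ΓSpecIso A).inv r ∈ ann Γ(Spec A, ⊤) (e' m) ↔ r ∈ ann A m := by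
    intro m r
    rw [mem_ann, mem_ann, ← hsm, ← map_smul, LinearEquiv.map_eq_zero_iff]
  constructor
  · rintro ⟨t, ht⟩
    obtain ⟨m, rfl⟩ := e'.surjective t
    refine ⟨m, mem_minimalPrimes_of_forall (hp := p.isPrime) ?_ ?_⟩
    · intro r hr
      rw [← mem_primeIdealOf_top_iff]
      exact ht.1.2 ((hann m r).mpr hr)
    · intro a ha
      obtain ⟨g, hg, n, hgn⟩ := exists_mul_pow_mem ht ((mem_primeIdealOf_top_iff p a).mpr ha)
      obtain ⟨g, rfl⟩ := hinv g
      refine ⟨g, fun h => hg ((mem_primeIdealOf_top_iff p g).mpr h), n, ?_⟩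
      rw [← hann]
      simpa using hgn
  · rintro ⟨m, hm⟩
    refine ⟨e' m, mem_minimalPrimes_of_forall ?_ ?_⟩
    · intro a ha
      obtain ⟨r, rfl⟩ := hinv a
      rw [mem_primeIdealOf_top_iff]
      exact hm.1.2 ((hann m r).mp ha)
    · intro a ha
      obtain ⟨r, rfl⟩ := hinv a
      rw [mem_primeIdealOf_top_iff] at ha
      obtain ⟨g, hg, n, hgn⟩ := exists_mul_pow_mem hm ha
      refine ⟨(Scheme.ΓSpecIso A).inv g, fun h => hg ((mem_primeIdealOf_top_iff p g).mp h), n, ?_⟩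
      have := (hann m _).mpr hgn
      simpa using this

end Groth.Agent.Divis.WeakAssSpec
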